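import Cfsg.Agent.Lib.FusionNormalCent.Closed
import Cfsg.Agent.Lib.FusionPIndex.Normal
import Cfsg.Agent.Lib.Fusion.KSystem

/-
The centralizer subsystem `C_F(E)`: a normal subsystem of `F` over `C_S(E)` inside `C_F(T)`.
Main results: `exists_centralizerT`, `transport_cent`, `frattini_cent`, `extension_cent`,
`exists_normal_over_cent`.
-/

set_option autoImplicit false

namespace Cfsg.Agent.FusionNormalCent

open Cfsg Cfsg.FusionSystem Cfsg.Agent.Fusion

variable {Ω : Type*} [Group Ω] {S T : Subgroup Ω} {F : FusionSystem S} {E : FusionSystem T} {p : ℕ}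

theorem exists_centralizerT [Finite S] [Fact p.Prime] (hS : IsPGroup p S) (hF : F.IsSaturated p)
    (hT : F.StronglyClosed T) :
    ∃ C : FusionSystem (centralizerIn S T), C.IsSaturated p ∧ F.IsCentralizerSystem T C := by
  obtain ⟨C, hC⟩ := exists_system_congr (NK_bot S T) (kSys F T ⊥ hT.1)
    (H := fun P => F.centralizerHom T P) (kSys_bot_hom hT.1)
  refine ⟨C, isSaturated_congr (NK_bot S T) (fun P => (kSys_bot_hom hT.1 P).trans (hC P).symm) ?_,
    hC⟩
  exact isSaturated_kSys hS hF (isFullyK_bot_iff.2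
    (fullyCentralized_of_fullyNormalized hS hF (fullyNormalized_strongly hT)))

variable {C : FusionSystem (centralizerIn S T)}

theorem isMap_centralizer (hTS : T ≤ S) (hC : F.IsCentralizerSystem T C) {P : Subgroup Ω}
    {f : Ω → Ω} : IsMap C P f ↔ P ≤ centralizerIn S T ∧ (∀ x ∈ P, f x ∈ centralizerIn S T) ∧
      Fix F T P f := by
  constructor
  · rintro ⟨φ, hφ, e⟩
    rw [hC P] at hφ
    obtain ⟨-, hP, hφc, ψ, hψ, h1, h2⟩ := hφ
    refine ⟨hP, fun x hx => e x hx ▸ hφc ⟨x, hx⟩, toFn ψ, isMap_toFn hψ, fun x hx => ?_,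
      fun y hy => ?_⟩
    · rw [toFn_apply ψ (le_sup_left (b := T) hx), ← e x hx]
      exact h1 ⟨x, hx⟩
    · rw [toFn_apply ψ (le_sup_right (a := P) hy)]
      exact h2 ⟨y, hy⟩
  · rintro ⟨hP, hf, g, hg, h1, h2⟩
    obtain ⟨φ, hφ, e⟩ := (hg.mono le_sup_left).congr h1
    obtain ⟨ψ, hψ, e'⟩ := hg
    refine ⟨φ, ?_, e⟩
    rw [hC P]
    exact ⟨hφ, hP, fun x => (e x x.2).symm ▸ hf x x.2, ψ, hψ,
      fun x => ((e' x (le_sup_left (b := T) x.2)).trans (h1 x x.2)).trans (e x x.2).symm,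
      fun y => (e' y (le_sup_right (a := P) y.2)).trans (h2 y y.2)⟩

theorem centralizer_le (hC : F.IsCentralizerSystem T C) : C.IsSubsystemOf F := fun P φ hφ => by
  rw [hC P] at hφ
  exact hφ.1

variable [Finite S] [Fact p.Prime] (hS : IsPGroup p S) (hF : F.IsSaturated p)
  (hE : E.IsNormalIn F p) (hC : F.IsCentralizerSystem T C) (hCs : C.IsSaturated p)
  {D : FusionSystem (cent F E p hE.1.2.2)} (hDs : D.IsSaturated p)
  (hDi : D.HasPPowerIndexIn C p)

set_option quotPrecheck false in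
local notation "Yc" => cent F E p hE.1.2.2

include hS hF hC hDs hDi in
/-- Invariance under `Aut_F(C_S(E))`. -/
theorem transport_cent {α : MulAut (Yc)}
    (hα : α ∈ F.autGroup (Yc)) {P : Subgroup Ω} {f : Ω → Ω} (hf : IsMap D P f) :
    ∃ g, IsMap D (img (autFn α) P) g ∧ ∀ x ∈ P, g (autFn α x) = autFn α (f x) := by
  have hTS : T ≤ S := hE.1.2.2.2.1.1
  have hYC : Yc ≤ centralizerIn S T := cent_le hE
  have hYS : Yc ≤ S := hYC.trans inf_le_left
  have hYcl := stronglyClosed_cent hS hF hE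
  have := finite_of_le hYS
  have hY : IsPGroup p Yc := hS.to_le hYS
  have hαS : IsMap F Yc (autFn α) := (mem_autGroup_iff hYS).1 hα
  obtain ⟨A, hA, hAe⟩ := extend_aut hS hF hYcl hα
  obtain ⟨Ai, hAi, hAl, hAr⟩ := hA.symm
  have hTU : T ≤ Dom S Yc := fun t ht => cen_le_dom S Yc (mem_centralizerIn.2
    ⟨hTS ht, fun y hy => ((mem_centralizerIn.1 (hYC hy)).2 t ht).symm⟩)
  have hAT : ∀ t ∈ T, A t ∈ T := fun t ht =>
    (stronglyClosed_iff.1 hE.1.2.2.2.1).2 _ A hA.1 t (hTU ht) ht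
  have hAiT : ∀ t ∈ T, Ai t ∈ T := fun t ht =>
    (stronglyClosed_iff.1 hE.1.2.2.2.1).2 _ Ai hAi.1 t (hTU ht) ht
  refine FusionChain.alperin_induction hY hDs
    (fun P f => ∃ g, IsMap D (img (autFn α) P) g ∧ ∀ x ∈ P, g (autFn α x) = autFn α (f x))
    ?_ ?_ ?_ ?_ hf
  · rintro P f f' - ⟨g, hg, hge⟩ he
    exact ⟨g, hg, fun x hx => by rw [hge x hx, he x hx]⟩
  · intro P P' f hf hle
    rintro ⟨g, hg, hge⟩
    refine ⟨g, hg.mono ?_, fun x hx => hge x (hle hx)⟩
    exact (hαS.mono (hle.trans hf.le)).img_le le_rfl fun x hx => (hαS.mono hf.le).mem_img (hle hx)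
  · rintro P P' f f' hf hf' hfP ⟨g, hg, hge⟩ ⟨g', hg', hge'⟩
    refine ⟨fun y => g' (g y), hg.comp hg' fun y hy => ?_, fun x hx => ?_⟩
    · obtain ⟨x, hx, rfl⟩ := (hαS.mem_img_iff hf.le).1 hy
      rw [hge x hx]
      exact (hαS.mono hf'.le).mem_img (hfP x hx)
    · show g' (g (autFn α x)) = _
      rw [hge x hx, hge' _ (hfP x hx)]
  intro R hR _ _ a ha _
  have hiso : IsIso F R (img (autFn α) R) (autFn α) := (hαS.mono hR.1).isIso
  have hQY : img (autFn α) R ≤ Yc := hαS.img_le hR.1 fun x hx => autFn_mem α (hR.1 hx)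
  have hRC := hR.1.trans hYC
  have hQC := hQY.trans hYC
  have := finite_mulAut (S := Yc) hR.1
  have hcongr : ∀ b ∈ C.autGroup R, MulAut.congr hiso.equiv b ∈ C.autGroup (img (autFn α) R) := by
    intro b hb
    obtain ⟨-, -, G, hG, hG1, hG2⟩ := (isMap_centralizer hTS hC).1 ((mem_autGroup_iff hRC).1 hb)
    have hAiQ : ∀ z ∈ img (autFn α) R, Ai z ∈ R := fun z hz => by
      obtain ⟨x, hx, rfl⟩ := hiso.exists_eq hz
      rw [← hAe x (hR.1 hx), hAl x (le_dom S Yc (hR.1 hx))]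
      exact hx
    have hdom : img (autFn α) R ⊔ T ≤ Dom S Yc := sup_le (hQY.trans (le_dom S Yc)) hTU
    have hmid : ∀ z ∈ img (autFn α) R ⊔ T, Ai z ∈ R ⊔ T := fun z hz =>
      hAi.1.forall_mem_sup (hQY.trans (le_dom S Yc)) hTU
        (fun w hw => le_sup_left (b := T) (hAiQ w hw))
        (fun w hw => le_sup_right (a := R) (hAiT w hw)) hz
    have hGmem : ∀ z ∈ R ⊔ T, G z ∈ Dom S Yc := fun z hz => hG.forall_mem_sup le_sup_left le_sup_right
      (fun w hw => le_dom S Yc (hR.1 (by rw [hG1 w hw]; exact autFn_mem b hw)))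
      (fun w hw => hTU (by rw [hG2 w hw]; exact hw)) hz
    refine (mem_autGroup_iff hQC).2 ((isMap_centralizer hTS hC).2 ⟨hQC,
      fun x hx => hQC (autFn_mem _ hx), fun z => A (G (Ai z)),
      ((hAi.1.mono hdom).comp hG hmid).comp hA.1 fun z hz => hGmem _ (hmid z hz),
      fun z hz => ?_, fun y hy => ?_⟩)
    · show A (G (Ai z)) = _
      obtain ⟨x, hx, rfl⟩ := hiso.exists_eq hz
      have h1 : Ai (autFn α x) = x := by rw [← hAe x (hR.1 hx), hAl x (le_dom S Yc (hR.1 hx))]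
      rw [h1, hG1 x hx, hAe _ (hR.1 (autFn_mem b hx)), autFn_apply _ (hiso.mem hx),
        show (⟨autFn α x, hiso.mem hx⟩ : img (autFn α) R) = hiso.equiv ⟨x, hx⟩ from
          Subtype.ext (hiso.equiv_apply ⟨x, hx⟩).symm,
        congr_apply_coe, ← autFn_apply b hx]
    · show A (G (Ai y)) = y
      rw [hG2 _ (hAiT y hy), hAr y (hTU hy)]
  have hH : D.autGroup R ≤ (D.autGroup (img (autFn α) R)).comap
      (MulAut.congr hiso.equiv).toMonoidHom := by
    refine FusionNormal.autGroup_le_of_sylow_pResidual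
      (isFullyAutomized_iff.1 (fullyAutomized_of_fullyNormalized hY hDs hR)).2 (fun b hb => ?_)
      fun b hb hco => ?_
    · obtain ⟨t, ht, hbt⟩ := mem_autInducedBy_iff.1 hb
      refine autInducedBy_le_autGroup D (K := Yc) le_rfl hQY
        (mem_autInducedBy_iff.2 ⟨autFn α t, autFn_mem α ht, fun y => ?_⟩)
      obtain ⟨x, rfl⟩ := hiso.equiv.surjective y
      show ((MulAut.congr hiso.equiv b (hiso.equiv x) : img (autFn α) R) : Ω) = _
      rw [congr_apply_coe hiso b x, hbt x, hαS.map_conj ht (hR.1 x.2)]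
      rfl
    · refine hDi.2.2 _ hQY (FusionNormal.mem_pResidual_map
        (hcongr b (FusionNormal.autGroup_le_of_sub hDi.1 hR.1 hb)) ?_)
      show (orderOf (MulAut.congr hiso.equiv b)).Coprime p
      rwa [MulEquiv.orderOf_eq]
  refine ⟨autFn (MulAut.congr hiso.equiv a), (mem_autGroup_iff hQY).1 (hH ha), fun x hx => ?_⟩
  rw [autFn_apply _ (hiso.mem hx), autFn_apply a hx]
  exact congr_apply_coe hiso a ⟨x, hx⟩

theorem normal_cent_in_centralizer :
    ((Yc).subgroupOf (centralizerIn S T)).Normal :=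
  ⟨fun n hn g => cent_conj hE g.2.1 hn⟩

include hS hF hC hCs hDs hDi in
/-- The Frattini condition. -/
theorem frattini_cent {P : Subgroup Ω} (hP : P ≤ Yc) {f : Ω → Ω}
    (hf : IsMap F P f) :
    ∃ α ∈ F.autGroup (Yc), ∃ f₀, IsMap D P f₀ ∧
      ∀ x ∈ P, f x = autFn α (f₀ x) := by
  have hTS : T ≤ S := hE.1.2.2.2.1.1
  have hTc := hE.1.2.2.2.1
  have hYC : Yc ≤ centralizerIn S T := cent_le hE
  have hYS : Yc ≤ S := hYC.trans inf_le_left
  have hYcl := stronglyClosed_cent hS hF hE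
  obtain ⟨g, hg, hge⟩ := exists_extension_cent hS hF hE hP hf
  have hgY : ∀ x ∈ P, g x ∈ Yc := fun x hx => by
    rw [hge x hx]
    exact (stronglyClosed_iff.1 hYcl).2 P f hf x hx (hP hx)
  have hgT : IsIso F T T g := ⟨hg.mono le_sup_right, img_strongly hTc hg le_sup_right⟩
  obtain ⟨τ, hτ, hτe⟩ := exists_aut_of_isIso hgT
  obtain ⟨a, ha, hae⟩ := extend_aut hS hF hTc hτ
  obtain ⟨ai, hai, hal, har⟩ := ha.symm
  have hYW : Yc ≤ Dom S T := hYC.trans (cen_le_dom S T)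
  have hgW : ∀ x ∈ P ⊔ T, g x ∈ Dom S T := fun x hx => hg.forall_mem_sup le_sup_left le_sup_right
    (fun w hw => hYW (hgY w hw)) (fun w hw => le_dom S T (hgT.mem hw)) hx
  have hω : IsMap C P fun x => ai (g x) := by
    refine (isMap_centralizer hTS hC).2 ⟨hP.trans hYC, fun x hx => ?_, fun x => ai (g x),
      hg.comp hai.1 hgW, fun x _ => rfl, fun y hy => ?_⟩
    · exact dom_mem hTc hai (hYC (hgY x hx))
    · show ai (g y) = y
      have h1 : g y = a y := by rw [hae y hy, autFn_apply τ hy, hτe]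
      rw [h1, hal y (le_dom S T hy)]
  have := finite_of_le (S := S) (P := centralizerIn S T) inf_le_left
  have hCp : IsPGroup p (centralizerIn S T) := hS.to_le inf_le_left
  have hfoc := focal_le_cent hE hS hF hC
  obtain ⟨α', hα', f₀, hf₀, he⟩ := FusionPIndex.frattini_pPowerIndex hCp hCs hYC
    (normal_cent_in_centralizer hE) ((FusionChain.hyperfocal_le_focal p).trans hfoc) hDs hDi hω
  rw [inf_eq_left.2 hP] at hf₀ he
  have haY : IsIso F Yc Yc a := ⟨ha.1.mono hYW, eq_of_le_of_card hYS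
    (ha.1.img_le hYW fun x hx => cent_invariant hE ha hx) (ha.1.card_img hYW).ge⟩
  obtain ⟨αY, hαY, hαYe⟩ := exists_aut_of_isIso haY
  refine ⟨αY * α', mul_mem hαY (FusionNormal.autGroup_le_of_sub (centralizer_le hC) hYC hα'), f₀,
    hf₀, fun x hx => ?_⟩
  have hx0 := hf₀.mem hx
  rw [autFn_apply _ hx0, MulAut.mul_apply, hαYe, ← autFn_apply α' hx0, ← he x hx]
  show f x = a (ai (g x))
  rw [har _ (hYW (hgY x hx)), hge x hx]

include hS hF hC hCs hDs hDi in
/-- The extension condition. -/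
theorem extension_cent {α : MulAut (Yc)}
    (hα : α ∈ D.autGroup (Yc)) :
    ∃ b, IsIso F (Dom S (Yc)) (Dom S (Yc)) b ∧
      (∀ x ∈ Yc, b x = autFn α x) ∧
      ∀ c ∈ centralizerIn S (Yc), c⁻¹ * b c ∈
        Yc ⊓ Subgroup.centralizer (Yc : Set Ω) := by
  set V := centralizerIn S Yc
  set U := Dom S Yc
  have hTS : T ≤ S := hE.1.2.2.2.1.1
  have hTc := hE.1.2.2.2.1
  have hYC : Yc ≤ centralizerIn S T := cent_le hE
  have hYS : Yc ≤ S := hYC.trans inf_le_left
  have hYcl := stronglyClosed_cent hS hF hE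
  have hYn : ∀ s ∈ S, ∀ y ∈ Yc, s * y * s⁻¹ ∈ Yc := fun s hs y hy => cent_conj hE hs hy
  have hTn : ∀ s ∈ S, ∀ t ∈ T, s * t * s⁻¹ ∈ T := fun s hs t ht => conj_mem_of_stronglyClosed hTc hs ht
  have hVn : ∀ s ∈ S, ∀ v ∈ V, s * v * s⁻¹ ∈ V := fun s hs v hv =>
    mem_centralizerIn_of_conj (mul_mem (mul_mem hs hv.1) (inv_mem hs)) fun y hy => by
      have h := centralizerIn_conj hv (by simpa using hYn s⁻¹ (inv_mem hs) y hy : s⁻¹ * y * s ∈ Yc)
      calc s * v * s⁻¹ * y * (s * v * s⁻¹)⁻¹ = s * (v * (s⁻¹ * y * s) * v⁻¹) * s⁻¹ := by group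
        _ = s * (s⁻¹ * y * s) * s⁻¹ := by rw [h]
        _ = y := by group
  have := finite_of_le hYS
  have hYp : IsPGroup p Yc := hS.to_le hYS
  have := finite_mulAut (S := S) hYS
  have hUS : U ≤ S := dom_le hYS
  let Good : MulAut Yc → Prop := fun a => ∃ b, IsIso F U U b ∧ (∀ x ∈ Yc, b x = autFn a x) ∧
    ∀ c ∈ V, c⁻¹ * b c ∈ Yc ⊓ Subgroup.centralizer (Yc : Set Ω)
  have hone : Good 1 := ⟨fun x => x, IsIso.refl hUS,
    fun x hx => by rw [autFn_apply _ hx]; rfl, fun c _ => by simp⟩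
  have hmul : ∀ a b, Good a → Good b → Good (a * b) := by
    rintro a b ⟨ga, hga, ha1, ha2⟩ ⟨gb, hgb, hb1, hb2⟩
    refine ⟨fun x => ga (gb x), hgb.trans hga, fun x hx => ?_, fun c hc => ?_⟩
    · show ga (gb x) = _
      rw [hb1 x hx, ha1 _ (autFn_mem b hx)]
      refine (autFn_apply a (autFn_mem b hx)).trans (Eq.trans ?_ (autFn_apply (a * b) hx).symm)
      exact congrArg (fun z : Yc => ((a z : Yc) : Ω)) (Subtype.ext (autFn_apply b hx))
    · show c⁻¹ * ga (gb c) ∈ _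
      have h1 : gb c ∈ V := map_centralizerIn hgb.1 (le_dom S Yc)
        (img_strongly hYcl hgb.1 (le_dom S Yc)) (cen_le_dom S Yc hc) hc
      rw [show c⁻¹ * ga (gb c) = (c⁻¹ * gb c) * ((gb c)⁻¹ * ga (gb c)) by group]
      exact mul_mem (hb2 c hc) (ha2 _ h1)
  let H : Subgroup (MulAut Yc) :=
    { carrier := {a | Good a}
      one_mem' := hone
      mul_mem' := fun {a b} ha hb => hmul a b ha hb
      inv_mem' := fun {a} ha => by
        have hpow : ∀ j : ℕ, Good (a ^ j) := by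
          intro j
          induction j with
          | zero => simpa using hone
          | succ j ih => rw [pow_succ]; exact hmul _ _ ih ha
        have := hpow (orderOf a - 1)
        have e : a ^ (orderOf a - 1) = a⁻¹ := by
          rw [eq_inv_iff_mul_eq_one, ← pow_succ,
            Nat.sub_add_cancel (orderOf_pos a), pow_orderOf_eq_one]
        rwa [e] at this }
  show α ∈ H
  refine FusionNormal.autGroup_le_of_sylow_pResidual (H := H)
    (isFullyAutomized_iff.1 (fullyAutomized_of_fullyNormalized hYp hDs (isFullyNormalized_self D))).2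
    (fun a ha => ?_) (fun a ha hn => ?_) hα
  · obtain ⟨t, ht, hte⟩ := mem_autInducedBy_iff.1 ha
    refine ⟨fun x => t * x * t⁻¹, isIso_dom_of_map hYcl (IsMap.conj le_rfl (hYS ht)) hUS,
      fun x hx => ((autFn_apply a hx).trans (hte ⟨x, hx⟩)).symm, fun c hc => ?_⟩
    show c⁻¹ * (t * c * t⁻¹) ∈ _
    rw [← (mem_centralizerIn.1 hc).2 t ht, mul_inv_cancel_right, inv_mul_cancel]
    exact one_mem _
  set n := orderOf a
  have := finite_of_le (S := S) (P := centralizerIn S T) inf_le_left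
  have hCp : IsPGroup p (centralizerIn S T) := hS.to_le inf_le_left
  obtain ⟨β, hβ, hβ1, hβ2⟩ := FusionPIndex.extension_pPowerIndex hCp hCs hYC
    (normal_cent_in_centralizer hE)
    ((FusionChain.hyperfocal_le_focal p).trans (focal_le_cent hE hS hF hC)) hDs hDi ha
  have hM0C : (Yc ⊔ centralizerIn (centralizerIn S T) Yc) ≤ centralizerIn S T := sup_le hYC inf_le_left
  obtain ⟨-, -, g, hg, hg1, hg2⟩ := (isMap_centralizer hTS hC).1 ((mem_autGroup_iff hM0C).1 hβ)
  set M := (Yc ⊔ centralizerIn (centralizerIn S T) Yc) ⊔ T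
  have hMS : M ≤ S := hg.le
  have hYM : Yc ≤ M := le_sup_left.trans le_sup_left
  have hTM : T ≤ M := le_sup_right
  have hZM : (centralizerIn (centralizerIn S T) Yc) ≤ M := le_sup_right.trans le_sup_left
  have hgY : ∀ x ∈ Yc, g x = autFn a x := fun x hx => by
    have hx0 : x ∈ (Yc ⊔ centralizerIn (centralizerIn S T) Yc) := le_sup_left (b := (centralizerIn (centralizerIn S T) Yc)) hx
    rw [hg1 x hx0, autFn_apply β hx0, autFn_apply a hx]
    exact hβ1 ⟨x, hx⟩
  have hMN : M ≤ normalizerIn S Yc := fun s hs => mem_normalizerIn_of_conj (hMS hs) (hYn s (hMS hs))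
  have hgmod : ∀ x ∈ M, x⁻¹ * g x ∈ Yc := by
    refine mod_of_gen hg hMN (fun x hx => ?_) fun t ht => by rw [hg2 t ht]; simp
    rw [hg1 x hx]
    refine mod_of_gen ((mem_autGroup_iff hM0C).1 hβ |> FusionNormal.isMap_of_sub (centralizer_le hC))
      (le_sup_left.trans hMN) (fun y hy => ?_) (fun z hz => ?_) x hx
    · exact mul_mem (inv_mem hy) (by
        rw [autFn_apply β (le_sup_left (b := (centralizerIn (centralizerIn S T) Yc)) hy)]
        exact (hβ1 ⟨y, hy⟩).symm ▸ (a ⟨y, hy⟩).2)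
    · have hz0 : z ∈ (Yc ⊔ centralizerIn (centralizerIn S T) Yc) := le_sup_right (a := Yc) hz
      rw [autFn_apply β hz0]
      exact (hβ2 ⟨z, hz0⟩ hz).1
  have hgM : ∀ x ∈ M, g x ∈ M := fun x hx => mem_of_mod hYM hgmod hx
  have hgper : Periodic n Yc g := fun x hx => by
    rw [iterate_congr (fun y hy => autFn_mem a hy) hgY n x hx, ← autFn_pow a n hx,
      pow_orderOf_eq_one, autFn_apply _ hx]
    rfl
  obtain ⟨m, hm, hdm⟩ := exists_exponent hS hn 1
  rw [pow_one] at hdm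
  have hg'map := isMap_iterate hg hgM m
  set g' := g^[m]
  have hg'per : Periodic n M g' := periodic_iterate (periodic_mul hg hYM hgmod hgper) hdm
  have hg'Y : ∀ x ∈ Yc, g' x = autFn a x := fun x hx => by
    show g^[m] x = _
    rw [iterate_eq_of_periodic (hgper x hx) hm, hgY x hx]
  have hg'T : ∀ t ∈ T, g' t = t := fun t ht => Function.iterate_fixed (hg2 t ht) m
  have hg'mod : ∀ x ∈ M, x⁻¹ * g' x ∈ Yc := iterate_mod hYM hgmod m
  have hg'imgY : img g' Yc = Yc := img_strongly hYcl hg'map hYM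
  have hg'Z : ∀ z ∈ (centralizerIn (centralizerIn S T) Yc), z⁻¹ * g' z ∈ Yc ⊓ Subgroup.centralizer (Yc : Set Ω) := fun z hz => by
    have hzV : z ∈ V := ⟨hz.1.1, hz.2⟩
    exact ⟨hg'mod z (hZM hz),
      (mul_mem (inv_mem hzV) (map_centralizerIn hg'map hYM hg'imgY (hZM hz) hzV)).2⟩
  -- `M` is normal in `S`
  have hMconj : ∀ s ∈ S, ∀ x ∈ M, s * x * s⁻¹ ∈ M := fun s hs x hx => by
    refine (IsMap.conj (F := F) hMS hs).forall_mem_sup le_sup_left le_sup_right (fun w hw => ?_)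
      (fun w hw => hTM (hTn s hs w hw)) hx
    refine (IsMap.conj (F := F) (hM0C.trans inf_le_left) hs).forall_mem_sup le_sup_left le_sup_right
      (fun v hv => hYM (hYn s hs v hv)) (fun v hv => hZM ?_) hw
    refine ⟨?_, (hVn s hs v ⟨hv.1.1, hv.2⟩).2⟩
    refine mem_centralizerIn_of_conj (mul_mem (mul_mem hs hv.1.1) (inv_mem hs)) fun t ht => ?_
    have h := centralizerIn_conj hv.1 (by simpa using hTn s⁻¹ (inv_mem hs) t ht : s⁻¹ * t * s ∈ T)
    calc s * v * s⁻¹ * t * (s * v * s⁻¹)⁻¹ = s * (v * (s⁻¹ * t * s) * v⁻¹) * s⁻¹ := by group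
      _ = s * (s⁻¹ * t * s) * s⁻¹ := by rw [h]
      _ = t := by group
  have := finite_of_le hMS
  have hSN : S ≤ normalizerIn S M := fun s hs => mem_normalizerIn_of_conj hs (hMconj s hs)
  have hMfn : F.IsFullyNormalized M := by
    have := finite_of_le (S := S) (P := normalizerIn S M) inf_le_left
    exact ⟨hMS, fun Q _ => Subgroup.card_le_of_le (inf_le_left.trans hSN)⟩
  have hg'I : IsIso F M M g' := ⟨hg'map, eq_of_le_of_card hMS
    (hg'map.img_le le_rfl (iterate_mem hgM m)) (hg'map.card_img le_rfl).ge⟩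
  obtain ⟨bb, hbb, hbe⟩ := exists_aut_of_isIso hg'I
  let Stab : Subgroup (MulAut M) :=
    { carrier := {κ | κ ∈ F.autGroup M ∧ (∀ x : M, (x : Ω) ∈ Yc → κ x = x) ∧
        ∀ x : M, (x : Ω)⁻¹ * (κ x : M) ∈ Yc}
      one_mem' := ⟨one_mem _, fun x _ => rfl, fun x => by simp⟩
      mul_mem' := fun {a b} ha hb => ⟨mul_mem ha.1 hb.1,
        fun x hx => by rw [MulAut.mul_apply, hb.2.1 x hx, ha.2.1 x hx],
        fun x => by
          rw [MulAut.mul_apply, show (x : Ω)⁻¹ * (a (b x) : M) =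
            ((x : Ω)⁻¹ * (b x : M)) * ((b x : M) : Ω)⁻¹ * (a (b x) : M) by group, mul_assoc]
          exact mul_mem (hb.2.2 x) (ha.2.2 (b x))⟩
      inv_mem' := fun {a} ha => ⟨inv_mem ha.1, fun x hx => by
          have h := congrArg (a⁻¹ : MulAut M) (ha.2.1 x hx)
          rw [MulAut.inv_apply_self] at h
          exact h.symm,
        fun x => by
          have h := inv_mem (ha.2.2 (a⁻¹ x))
          rw [MulAut.apply_inv_self, mul_inv_rev, inv_inv] at h
          exact h⟩ }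
  have hStabp : IsPGroup p Stab := isPGroup_fixing (F := F) hS hYM hMS (fun κ hκ => hκ.1)
    (fun κ hκ x hx => by rw [autFn_apply κ (hYM hx), hκ.2.1 ⟨x, hYM hx⟩ hx])
    fun κ hκ x hx => by rw [autFn_apply κ hx]; exact hκ.2.2 ⟨x, hx⟩
  have hStabS : Stab ≤ autInducedBy S M := by
    refine le_of_normalized (isFullyAutomized_iff.1 (fullyAutomized_of_fullyNormalized hS hF hMfn)).2
      (fun κ hκ => hκ.1) hStabp fun b hb κ hκ => ?_
    obtain ⟨s, hs, hse⟩ := mem_autInducedBy_iff.1 hb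
    have hbi : ∀ x : M, ((b⁻¹ x : M) : Ω) = s⁻¹ * x * s := fun x => by
      have h1 := hse (b⁻¹ x)
      rw [MulAut.apply_inv_self] at h1
      rw [h1]
      group
    refine ⟨mul_mem (mul_mem (autInducedBy_le_autGroup F le_rfl hMS hb) hκ.1)
      (inv_mem (autInducedBy_le_autGroup F le_rfl hMS hb)), fun x hx => ?_, fun x => ?_⟩
    · rw [MulAut.mul_apply, MulAut.mul_apply, hκ.2.1 (b⁻¹ x) (by
        rw [hbi]; simpa using hYn s⁻¹ (inv_mem hs) x hx), MulAut.apply_inv_self]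
    · rw [MulAut.mul_apply, MulAut.mul_apply, hse]
      have h1 := hYn s hs _ (hκ.2.2 (b⁻¹ x))
      rw [hbi] at h1
      rw [show (x : Ω)⁻¹ * (s * ((κ (b⁻¹ x) : M) : Ω) * s⁻¹) =
        s * ((s⁻¹ * x * s)⁻¹ * ((κ (b⁻¹ x) : M) : Ω)) * s⁻¹ by group]
      exact h1
  obtain ⟨f, hf, hfe⟩ := FusionChain.exists_extension (M := V)
    (receptive_of_fullyNormalized hS hF hMfn) hbb (fun v hv => hSN hv.1) fun s hs => by
    set c := normConj S M ⟨s, hSN hs.1⟩
    have hc0 : c ∈ autInducedBy S M := range_normConj S M ▸ ⟨_, rfl⟩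
    suffices hδ : bb * c * bb⁻¹ * c⁻¹ ∈ Stab by
      have := mul_mem (hStabS hδ) hc0
      rwa [inv_mul_cancel_right] at this
    have hcF : c ∈ F.autGroup M := autInducedBy_le_autGroup F le_rfl hMS hc0
    have hci : ∀ x : M, ((c⁻¹ x : M) : Ω) = s⁻¹ * x * s := fun x => by
      have h1 : ((c (c⁻¹ x) : M) : Ω) = s * (c⁻¹ x : M) * s⁻¹ := rfl
      rw [MulAut.apply_inv_self] at h1
      rw [h1]
      group
    refine ⟨mul_mem (mul_mem (mul_mem hbb hcF) (inv_mem hbb)) (inv_mem hcF), fun x hx => ?_,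
      fun x => ?_⟩
    · show bb (c (bb⁻¹ (c⁻¹ x))) = x
      have h1 : c⁻¹ x = x := Subtype.ext <| (hci x).trans <| by
        have := centralizerIn_conj (inv_mem hs) hx
        rwa [inv_inv] at this
      rw [h1]
      have hwY : ((bb⁻¹ x : M) : Ω) ∈ Yc := by
        rw [← hg'imgY] at hx
        obtain ⟨y, hy, hye⟩ := (hg'map.mem_img_iff hYM).1 hx
        have : bb⁻¹ x = ⟨y, hYM hy⟩ := by
          rw [show x = bb ⟨y, hYM hy⟩ from Subtype.ext (by rw [hbe]; exact hye.symm),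
            MulAut.inv_apply_self]
        rw [this]
        exact hy
      have h2 : c (bb⁻¹ x) = bb⁻¹ x := Subtype.ext (centralizerIn_conj hs hwY)
      rw [h2, MulAut.apply_inv_self]
    · show (x : Ω)⁻¹ * ((bb (c (bb⁻¹ (c⁻¹ x))) : M) : Ω) ∈ Yc
      set z := c⁻¹ x with hz
      set w := bb⁻¹ z with hw
      have hzw : (z : Ω) = g' w := by rw [← hbe, hw, MulAut.apply_inv_self]
      have hce : ∀ y : M, ((c y : M) : Ω) = s * y * s⁻¹ := fun y => rfl
      have hx' : (x : Ω) = s * z * s⁻¹ := by rw [← hce, hz, MulAut.apply_inv_self]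
      have h1 := hg'mod (w : Ω) w.2
      have h2 := hg'mod ((c w : M) : Ω) (c w).2
      rw [hbe, hce] at *
      rw [hx', hzw, show (s * g' (w : Ω) * s⁻¹)⁻¹ * g' (s * (w : Ω) * s⁻¹) =
        (s * ((w : Ω)⁻¹ * g' w) * s⁻¹)⁻¹ * ((s * (w : Ω) * s⁻¹)⁻¹ * g' (s * (w : Ω) * s⁻¹)) by group]
      exact mul_mem (inv_mem (hYn s hs.1 _ h1)) h2
  have hfe' : ∀ x ∈ M, f x = g' x := fun x hx => by rw [hfe x hx, autFn_apply bb hx, hbe]
  have hVM2 : V ≤ M ⊔ V := le_sup_right
  have hMM2 : M ≤ M ⊔ V := le_sup_left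
  -- maps fixing `T` on `M ⊔ V` move `V` by elements of `(centralizerIn (centralizerIn S T) Yc)`
  have hkey : ∀ h : Ω → Ω, IsMap F (M ⊔ V) h → (∀ t ∈ T, h t = t) → ∀ s ∈ V, s⁻¹ * h s ∈ (centralizerIn (centralizerIn S T) Yc) := by
    intro h hh hfix s hs
    have hhs : h s ∈ V := map_centralizerIn hh (hYM.trans hMM2)
      (img_strongly hYcl hh (hYM.trans hMM2)) (hVM2 hs) hs
    refine ⟨mem_centralizerIn_of_conj (mul_mem (inv_mem hs.1) hhs.1) fun t ht => ?_,
      (mul_mem (inv_mem hs) hhs).2⟩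
    have h1 := hh.map_conj (hVM2 hs) (hMM2 (hTM ht))
    rw [hfix _ ht, hfix _ (hTn s hs.1 t ht)] at h1
    calc s⁻¹ * h s * t * (s⁻¹ * h s)⁻¹ = s⁻¹ * (h s * t * (h s)⁻¹) * s := by group
      _ = s⁻¹ * (s * t * s⁻¹) * s := by rw [← h1]
      _ = t := by group
  have hfT : ∀ t ∈ T, f t = t := fun t ht => by rw [hfe' t (hTM ht), hg'T t ht]
  have hfmod : ∀ x ∈ M ⊔ V, x⁻¹ * f x ∈ M :=
    mod_of_gen hf ((sup_le hMS inf_le_left).trans hSN)
      (fun x hx => by rw [hfe' x hx]; exact hYM (hg'mod x hx))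
      fun s hs => hZM (hkey f hf hfT s hs)
  have hfper : Periodic n M f := fun x hx => by
    rw [iterate_congr (iterate_mem hgM m) hfe' n x hx]
    exact hg'per x hx
  have hfM2 : ∀ x ∈ M ⊔ V, f x ∈ M ⊔ V := fun x hx => mem_of_mod hMM2 hfmod hx
  have hhmap := isMap_iterate hf hfM2 m
  set h := f^[m]
  have hhper : Periodic n (M ⊔ V) h :=
    periodic_iterate (periodic_mul hf hMM2 hfmod hfper) hdm
  have hhM : ∀ x ∈ M, h x = g' x := fun x hx => by
    show f^[m] x = _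
    rw [iterate_eq_of_periodic (hfper x hx) hm, hfe' x hx]
  have hhT : ∀ t ∈ T, h t = t := fun t ht => by rw [hhM t (hTM ht), hg'T t ht]
  have hUM2 : U ≤ M ⊔ V := sup_le (hYM.trans hMM2) hVM2
  refine ⟨h, isIso_dom_of_map hYcl hhmap hUM2,
    fun x hx => by rw [hhM x (hYM hx), hg'Y x hx], fun s hs => ?_⟩
  refine coprime_twist_mem hS (V := centralizerIn (centralizerIn S T) Yc)
    (H := Yc ⊓ Subgroup.centralizer (Yc : Set Ω)) hhmap (hZM.trans hMM2)
    (fun x hx => ⟨hYC hx.1, hx.2⟩) (fun x hx => ?_)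
    (fun v hv => by rw [hhM v (hZM hv)]; exact hg'Z v hv) (hVM2 hs) (hkey h hhmap hhT s hs) hn
    (hhper s (hVM2 hs))
  have hxV : x ∈ V := ⟨hYS hx.1, hx.2⟩
  have himg := img_strongly hYcl hhmap (hYM.trans hMM2)
  exact ⟨himg.le (hhmap.mem_img hx.1),
    (map_centralizerIn hhmap (hYM.trans hMM2) himg (hYM.trans hMM2 hx.1) hxV).2⟩

include hS hF in
/-- There is a normal subsystem over `C_S(E)` centralizing `T`. -/
theorem exists_normal_over_cent :
    ∃ D : FusionSystem (cent F E p hE.1.2.2), D.IsNormalIn F p ∧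
      ∀ P : Subgroup Ω, D.Hom P ⊆ F.centralizerHom T P := by
  have hYC := cent_le hE
  have hYS : cent F E p hE.1.2.2 ≤ S := hYC.trans inf_le_left
  obtain ⟨C, hCs, hC⟩ := exists_centralizerT hS hF hE.1.2.2.2.1
  have := finite_of_le (S := S) (P := centralizerIn S T) inf_le_left
  have hCp : IsPGroup p (centralizerIn S T) := hS.to_le inf_le_left
  obtain ⟨D, hDs, hDi⟩ := FusionPIndex.exists_pPowerIndex hCp hCs hYC
    ((FusionChain.hyperfocal_le_focal p).trans (focal_le_cent hE hS hF hC))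
  refine ⟨D, ⟨⟨hDs, hF, fun P φ hφ => centralizer_le hC P (hDi.1 P hφ),
    stronglyClosed_cent hS hF hE, fun P hPY φ hφ α hα => ?_, fun P hPY φ hφ => ?_⟩,
    fun α hα => ?_⟩, fun P φ hφ => hC P ▸ hDi.1 P hφ⟩
  · obtain ⟨g, hg, hge⟩ := transport_cent hS hF hE hC hDs hDi hα (isMap_toFn hφ)
    have hdom : (P.subgroupOf (cent F E p hE.1.2.2)).map
        ((cent F E p hE.1.2.2).subtype.comp α.toMonoidHom) = img (autFn α) P := by
      have hαS := (mem_autGroup_iff hYS).1 hα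
      refine le_antisymm ?_ (hαS.img_le hPY fun x hx => ?_)
      · rintro _ ⟨x, hx, rfl⟩
        exact Subgroup.subset_closure ⟨x, hx, autFn_apply α x.2⟩
      · exact ⟨⟨x, hPY hx⟩, hx, (autFn_apply α (hPY hx)).symm⟩
    rw [← hdom] at hg
    obtain ⟨χ, hχ, hχe⟩ := hg
    refine ⟨χ, hχ, fun x hφx hαx => ?_⟩
    rw [hχe _ hαx, ← autFn_apply α (hPY x.2), hge x x.2, toFn_coe, autFn_apply α hφx]
  · obtain ⟨α, hα, f₀, ⟨φ₀, hφ₀, hφe⟩, he⟩ :=
      frattini_cent hS hF hE hC hCs hDs hDi hPY (isMap_toFn hφ)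
    refine ⟨α, hα, φ₀, hφ₀, fun x hx => ?_⟩
    rw [← toFn_coe φ x, he x x.2, ← hφe x x.2, autFn_apply α hx]
  · obtain ⟨b, hb, hb1, hb2⟩ := extension_cent hS hF hE hC hCs hDs hDi hα
    obtain ⟨β, hβ, hβe⟩ := exists_aut_of_isIso hb
    refine ⟨β, hβ, fun x => ?_, fun c hc => ?_⟩
    · refine (hβe _).trans ((hb1 x x.2).trans ?_)
      rw [autFn_apply α x.2]
    · exact (hβe c).symm ▸ hb2 c hc

end Cfsg.Agent.FusionNormalCent
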