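import Cfsg.Agent.Lib.FusionNormalCent.Centralizer

/-
`C_S(E)` is strongly closed, and maps between its subgroups extend to `T`.
Main results: `Ext`, `inner_of_radical`, `ext_step`, `ext_cent`, `exists_extension_cent`,
`stronglyClosed_cent`.
-/

set_option autoImplicit false

namespace Cfsg.Agent.FusionNormalCent

open Cfsg Cfsg.FusionSystem Cfsg.Agent.Fusion

variable {Ω : Type*} [Group Ω] {S T : Subgroup Ω} {F : FusionSystem S} {E : FusionSystem T} {p : ℕ}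

/-- The restriction of `f` to `P ⊓ C` extends to a map defined on `T`. -/
def Ext (F : FusionSystem S) (T C P : Subgroup Ω) (f : Ω → Ω) : Prop :=
  ∃ g, IsMap F ((P ⊓ C) ⊔ T) g ∧ ∀ x ∈ P, x ∈ C → g x = f x

/-- In a product `R V`, `R` normalizing `V`, an element decomposes. -/
theorem exists_eq_mul {R V : Subgroup Ω} (hn : ∀ r ∈ R, ∀ v ∈ V, r * v * r⁻¹ ∈ V) {z : Ω}
    (hz : z ∈ R ⊔ V) : ∃ r ∈ R, ∃ v ∈ V, z = r * v := by
  have hle : R ⊔ V ≤
      { carrier := {z | ∃ r ∈ R, ∃ v ∈ V, z = r * v}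
        one_mem' := ⟨1, one_mem _, 1, one_mem _, (one_mul 1).symm⟩
        mul_mem' := by
          rintro _ _ ⟨r, hr, v, hv, rfl⟩ ⟨r', hr', v', hv', rfl⟩
          refine ⟨r * r', mul_mem hr hr', r'⁻¹ * v * r' * v', mul_mem ?_ hv', by group⟩
          simpa using hn r'⁻¹ (inv_mem hr') v hv
        inv_mem' := by
          rintro _ ⟨r, hr, v, hv, rfl⟩
          exact ⟨r⁻¹, inv_mem hr, r * v⁻¹ * r⁻¹, hn r hr _ (inv_mem hv), by group⟩ : Subgroup Ω } :=
    sup_le (fun r hr => ⟨r, hr, 1, one_mem _, (mul_one r).symm⟩)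
      fun v hv => ⟨1, one_mem _, v, hv, (one_mul v).symm⟩
  exact hle hz

theorem map_inf_strongly [Finite S] (hT : F.StronglyClosed T) {R R' : Subgroup Ω} {g : Ω → Ω}
    (hg : IsIso F R R' g) : img g (R ⊓ T) = R' ⊓ T := by
  obtain ⟨gi, hgi, -, hgr⟩ := hg.symm
  refine le_antisymm (hg.1.img_le inf_le_left fun x hx =>
    ⟨hg.mem hx.1, (stronglyClosed_iff.1 hT).2 R g hg.1 x hx.1 hx.2⟩) fun z hz => ?_
  exact (hg.1.mem_img_iff inf_le_left).2
    ⟨gi z, ⟨hgi.mem hz.1, (stronglyClosed_iff.1 hT).2 R' gi hgi.1 z hz.1 hz.2⟩, hgr z hz.1⟩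

/-- The stabilizer of the chain `1 ≤ R ⊓ T ≤ R` of a radical `R` consists of inner automorphisms. -/
theorem inner_of_radical [Finite S] [Fact p.Prime] (hS : IsPGroup p S) (hT : F.StronglyClosed T)
    {R : Subgroup Ω} (hR : R ≤ S) (hrad : F.IsRadical p R) {κ : MulAut R} (hκ : κ ∈ F.autGroup R)
    (hfix : ∀ x : R, (x : Ω) ∈ T → κ x = x) (hmod : ∀ x : R, (x : Ω)⁻¹ * (κ x : R) ∈ T) :
    κ ∈ Cfsg.Inn R := by
  let K : Subgroup (MulAut R) :=
    { carrier := {a | a ∈ F.autGroup R ∧ (∀ x : R, (x : Ω) ∈ T → a x = x) ∧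
        ∀ x : R, (x : Ω)⁻¹ * (a x : R) ∈ T}
      one_mem' := ⟨one_mem _, fun x _ => rfl, fun x => by simp⟩
      mul_mem' := fun {a b} ha hb => ⟨mul_mem ha.1 hb.1,
        fun x hx => by rw [MulAut.mul_apply, hb.2.1 x hx, ha.2.1 x hx],
        fun x => by
          rw [MulAut.mul_apply, show (x : Ω)⁻¹ * (a (b x) : R) =
            ((x : Ω)⁻¹ * (b x : R)) * ((b x : R) : Ω)⁻¹ * (a (b x) : R) by group, mul_assoc]
          exact mul_mem (hb.2.2 x) (ha.2.2 (b x))⟩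
      inv_mem' := fun {a} ha => ⟨inv_mem ha.1, fun x hx => by
          have h := congrArg (a⁻¹ : MulAut R) (ha.2.1 x hx)
          rw [MulAut.inv_apply_self] at h
          exact h.symm,
        fun x => by
          have h := inv_mem (ha.2.2 (a⁻¹ x))
          rw [MulAut.apply_inv_self, mul_inv_rev, inv_inv] at h
          exact h⟩ }
  have hK : IsPGroup p K := isPGroup_fixing (F := F) hS (inf_le_left : R ⊓ T ≤ R) hR
    (fun a ha => ha.1) (fun a ha x hx => by rw [autFn_apply a hx.1, ha.2.1 ⟨x, hx.1⟩ hx.2])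
    fun a ha x hx => ⟨mul_mem (Subgroup.inv_mem _ hx) (autFn_mem a hx), by
      rw [autFn_apply a hx]; exact ha.2.2 ⟨x, hx⟩⟩
  have hpres : ∀ a ∈ F.autGroup R, ∀ x : R, (x : Ω) ∈ T → ((a x : R) : Ω) ∈ T := fun a ha x hx => by
    rw [← autFn_apply a x.2]
    exact (stronglyClosed_iff.1 hT).2 R _ (isIso_autFn hR ha).1 x x.2 hx
  have hn : ∀ a ∈ F.autGroup R, ∀ k ∈ K, a * k * a⁻¹ ∈ K := fun a ha k hk =>
    ⟨mul_mem (mul_mem ha hk.1) (inv_mem ha), fun x hx => by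
      rw [MulAut.mul_apply, MulAut.mul_apply, hk.2.1 _ (hpres _ (inv_mem ha) x hx),
        MulAut.apply_inv_self],
    fun x => by
      have h := hpres a ha ((a⁻¹ x)⁻¹ * k (a⁻¹ x)) (by push_cast; exact hk.2.2 _)
      rw [map_mul, map_inv, MulAut.apply_inv_self] at h
      push_cast at h
      rw [MulAut.mul_apply, MulAut.mul_apply]
      exact h⟩
  have hle := FusionChain.le_pCoreAut (F := F) hK (fun a ha => ha.1) hn
  rw [(FusionChain.isRadical_iff.1 hrad).2] at hle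
  exact hle ⟨hκ, hfix, hmod⟩

variable [Finite S] [Fact p.Prime] (hS : IsPGroup p S) (hF : F.IsSaturated p)
  (hE : E.IsNormalIn F p)

include hS hF in
theorem ext_mem {P : Subgroup Ω} {f : Ω → Ω} (h : Ext F T (cent F E p hE.1.2.2) P f) {x : Ω}
    (hx : x ∈ P) (hxC : x ∈ cent F E p hE.1.2.2) : f x ∈ cent F E p hE.1.2.2 := by
  obtain ⟨g, hg, he⟩ := h
  have hX := (cent_centralizes hE hS hF).mono (inf_le_right : P ⊓ cent F E p hE.1.2.2 ≤ _)
  rw [← he x hx hxC]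
  exact centralizes_le_cent hE hS hF (hX.transport hE.1.2.2 hg le_sup_right le_sup_left)
    (hg.mem_img ⟨hx, hxC⟩)

include hS hF in
theorem Ext.comp' {P P' : Subgroup Ω} {f f' : Ω → Ω} (h : Ext F T (cent F E p hE.1.2.2) P f)
    (hfP : ∀ x ∈ P, f x ∈ P') (h' : Ext F T (cent F E p hE.1.2.2) P' f') :
    Ext F T (cent F E p hE.1.2.2) P fun x => f' (f x) := by
  obtain ⟨g, hg, he⟩ := id h
  obtain ⟨g', hg', he'⟩ := h'
  refine ⟨fun x => g' (g x), hg.comp hg' fun x hx => hg.forall_mem_sup le_sup_left le_sup_right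
    (fun w hw => le_sup_left (a := P' ⊓ cent F E p hE.1.2.2) (b := T)
      (show g w ∈ P' ⊓ cent F E p hE.1.2.2 by
        rw [he w hw.1 hw.2]; exact ⟨hfP w hw.1, ext_mem hS hF hE h hw.1 hw.2⟩))
    (fun w hw => le_sup_right (a := P' ⊓ cent F E p hE.1.2.2)
      ((stronglyClosed_iff.1 hE.1.2.2.2.1).2 _ g hg w (le_sup_right (a := P ⊓ _) hw) hw)) hx,
    fun x hx hxC => ?_⟩
  show g' (g x) = f' (f x)
  rw [he x hx hxC, he' _ (hfP x hx) (ext_mem hS hF hE h hx hxC)]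

include hS hF in
/-- The step of the induction on `#(R ⊓ T)`. -/
theorem ext_step {R : Subgroup Ω} (hR : F.IsFullyNormalized R) (hRc : F.IsCentric R)
    (hRr : F.IsRadical p R) {α : MulAut R} (hα : α ∈ F.autGroup R)
    (big : ∀ U u, IsMap F U u → Nat.card (R ⊓ T : Subgroup Ω) < Nat.card (U ⊓ T : Subgroup Ω) →
      Ext F T (cent F E p hE.1.2.2) U u) :
    Ext F T (cent F E p hE.1.2.2) R (autFn α) := by
  set C := cent F E p hE.1.2.2 with hCdef
  have hEi := hE.1.2.2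
  have hTc := hEi.2.1
  have hTS := hTc.1
  have hCS : C ≤ S := (cent_le hE).trans inf_le_left
  have hTn : ∀ s ∈ S, ∀ t ∈ T, s * t * s⁻¹ ∈ T := fun s hs t ht => conj_mem_of_stronglyClosed hTc hs ht
  have hfinT := finite_of_le hTS
  by_cases hTR : T ≤ R
  · exact ⟨autFn α, (isIso_autFn hR.1 hα).1.mono (sup_le inf_le_left hTR), fun x _ _ => rfl⟩
  set P₀ := R ⊓ T
  have hP₀T : P₀ ≤ T := inf_le_right
  have hP₀S : P₀ ≤ S := hP₀T.trans hTS
  have hP₀lt : P₀ < T := lt_of_le_of_ne hP₀T fun e => hTR (e ▸ inf_le_left)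
  obtain ⟨P, g, hP, hg, hgP, -⟩ := exists_fullyNormalized_map hS hF hP₀S
  set N₀ := normalizerIn S P₀
  have hRN : normalizerIn S R ≤ N₀ := fun s hs => by
    have := finite_of_le hP₀S
    exact mem_normalizerIn_of_conj hs.1 fun x hx => ⟨normalizerIn_conj hs hx.1, hTn s hs.1 x hx.2⟩
  have hRN₀ : R ≤ N₀ := (le_normalizerIn hR.1).trans hRN
  have hN₀T : Nat.card P₀ < Nat.card (N₀ ⊓ T : Subgroup Ω) := by
    have h1 := lt_normalizerIn (hS.to_le hTS) le_rfl hP₀lt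
    have := finite_of_le (S := T) (P := N₀ ⊓ T) inf_le_right
    have h2 : normalizerIn T P₀ ≤ N₀ ⊓ T := le_inf (inf_le_inf_right _ hTS) inf_le_left
    have := finite_of_le (S := T) (P := normalizerIn T P₀) inf_le_left
    exact lt_of_lt_of_le (lt_of_le_of_ne (Subgroup.card_le_of_le h1.le)
      fun e => h1.ne (eq_of_le_of_card inf_le_left h1.le e.ge)) (Subgroup.card_le_of_le h2)
  have hgI := hg.isIso
  obtain ⟨gi, hgi, hgl, -⟩ := hgI.symm
  have hpg : Ext F T C N₀ g := big _ g hg hN₀T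
  have hpgi : Ext F T C (img g N₀) gi := by
    refine big _ gi hgi.1 ?_
    rw [← map_inf_strongly hTc hgI, hg.card_img inf_le_left]
    exact hN₀T
  set R₁ := img g R
  have hgR : IsIso F R R₁ g := ⟨hg.mono hRN₀, rfl⟩
  have hP₁ : R₁ ⊓ T = P := by rw [← map_inf_strongly hTc hgR]; exact hgP
  obtain ⟨α₁, hα₁, hα₁e⟩ : ∃ α₁ ∈ F.autGroup R₁, ∀ x : R, autFn α₁ (g x) = g (autFn α x) := by
    refine ⟨_, congr_mem_autGroup hgR hα, fun x => ?_⟩
    rw [autFn_apply _ (hgR.mem x.2),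
      show (⟨g x, hgR.mem x.2⟩ : R₁) = hgR.equiv x from Subtype.ext (hgR.equiv_apply x).symm,
      congr_apply_coe, autFn_apply α x.2]
  suffices hmain : Ext F T C R₁ (autFn α₁) by
    obtain ⟨G, hG, hGe⟩ := hpg
    have hpgR : Ext F T C R g :=
      ⟨G, hG.mono (sup_le_sup_right (inf_le_inf_right C hRN₀) T), fun x hx => hGe x (hRN₀ hx)⟩
    have h12 := Ext.comp' hS hF hE hpgR (fun x hx => hgR.mem hx) hmain
    obtain ⟨g', hg', he'⟩ := Ext.comp' hS hF hE h12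
      (fun x hx => (hgR.1.img_le le_rfl fun y hy => hg.mem_img (hRN₀ hy) :
        img g R ≤ img g N₀) (autFn_mem α₁ (hgR.mem hx))) hpgi
    refine ⟨g', hg', fun x hx hxC => ?_⟩
    rw [he' x hx hxC]
    show gi (autFn α₁ (g x)) = _
    rw [hα₁e ⟨x, hx⟩]
    exact hgl _ (hRN₀ (autFn_mem α hx))
  have hcR : F.IsConj R R₁ := isConj_iff.2 ⟨g, hgR⟩
  have hR₁ : F.IsFullyNormalized R₁ := by
    refine ⟨hgR.le_right, fun Q hQ => ?_⟩
    refine (hR.2 Q (isConj_trans hcR hQ)).trans ?_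
    rw [← hg.card_img hRN]
    have := finite_of_le (S := S) (P := normalizerIn S R₁) inf_le_left
    exact Subgroup.card_le_of_le (hg.img_le hRN fun s hs => map_normalizerIn hg hRN₀ rfl (hRN hs) hs)
  have hR₁S := hR₁.1
  have hR₁c : centralizerIn S R₁ ≤ R₁ := hRc.2 _ hcR
  have hPR₁ : P ≤ R₁ := hP₁ ▸ inf_le_left
  have hPT : P ≤ T := hP₁ ▸ inf_le_right
  have hR₁n : ∀ r ∈ R₁, ∀ x ∈ P, r * x * r⁻¹ ∈ P := fun r hr x hx =>
    hP₁.le ⟨mul_mem (mul_mem hr (hPR₁ hx)) (Subgroup.inv_mem _ hr), hTn r (hR₁S hr) x (hPT hx)⟩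
  -- the centric property of `P`
  have hcP : centralizerIn T P ≤ P := by
    by_contra hcon
    set V := R₁ ⊔ centralizerIn T P
    have hR₁cT : ∀ r ∈ R₁, ∀ v ∈ centralizerIn T P, r * v * r⁻¹ ∈ centralizerIn T P := fun r hr v hv =>
      mem_centralizerIn_of_conj (hTn r (hR₁S hr) v hv.1) fun x hx => by
        have h := centralizerIn_conj hv (by simpa using hR₁n r⁻¹ (inv_mem hr) x hx : r⁻¹ * x * r ∈ P)
        calc r * v * r⁻¹ * x * (r * v * r⁻¹)⁻¹ = r * (v * (r⁻¹ * x * r) * v⁻¹) * r⁻¹ := by group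
          _ = r * (r⁻¹ * x * r) * r⁻¹ := by rw [h]
          _ = x := by group
    have hlt : R₁ < V := lt_of_le_of_ne le_sup_left fun e => hcon fun v hv =>
      hP₁.le ⟨e.ge (le_sup_right (a := R₁) hv), hv.1⟩
    have hVS : V ≤ S := sup_le hR₁S (inf_le_left.trans hTS)
    obtain ⟨z, hz, hzR⟩ := SetLike.exists_of_lt (lt_normalizerIn hS hVS hlt)
    obtain ⟨r, hr, v, hv, rfl⟩ := exists_eq_mul hR₁cT hz.1
    have hvS : v ∈ S := hTS hv.1
    have hvN : v ∈ normalizerIn S R₁ := by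
      have h1 : r * v ∈ normalizerIn S R₁ := ⟨hVS hz.1, hz.2⟩
      simpa using mul_mem (inv_mem (le_normalizerIn hR₁S hr)) h1
    have hvmod : ∀ x ∈ R₁, x⁻¹ * (v * x * v⁻¹) ∈ T := fun x hx => by
      rw [show x⁻¹ * (v * x * v⁻¹) = (x⁻¹ * v * x⁻¹⁻¹) * v⁻¹ by group]
      exact mul_mem (hTn _ (inv_mem (hR₁S hx)) v hv.1) (inv_mem hv.1)
    -- pull back to `R`
    obtain ⟨gj, hgj, hgjl, hgjr⟩ := hgR.symm
    have hcI : IsIso F R₁ R₁ fun x => v * x * v⁻¹ := by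
      have hm : IsMap F R₁ fun x => v * x * v⁻¹ := IsMap.conj hR₁S hvS
      exact ⟨hm, eq_of_le_of_card hR₁S (hm.img_le le_rfl fun x hx => normalizerIn_conj hvN hx)
        (hm.card_img le_rfl).ge⟩
    obtain ⟨κ, hκ, hκe⟩ := exists_aut_of_isIso ((hgR.trans hcI).trans hgj)
    have hκinn : κ ∈ Cfsg.Inn R := by
      refine inner_of_radical hS hTc hR.1 hRr hκ (fun x hx => Subtype.ext ?_) fun x => ?_
      · rw [hκe]
        show gj (v * g x * v⁻¹) = x
        have hgx : g x ∈ P := hP₁.le ⟨hgR.mem x.2, (stronglyClosed_iff.1 hTc).2 R g hgR.1 x x.2 hx⟩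
        rw [centralizerIn_conj hv hgx]
        exact hgjl x x.2
      · rw [hκe]
        show (x : Ω)⁻¹ * gj (v * g x * v⁻¹) ∈ T
        have h1 := hgR.mem x.2
        have h2 := normalizerIn_conj hvN h1
        have h3 : (g x)⁻¹ * (v * g x * v⁻¹) ∈ R₁ := mul_mem (inv_mem h1) h2
        have h4 := (stronglyClosed_iff.1 hTc).2 R₁ gj hgj.1 _ h3 (hvmod _ h1)
        rw [hgj.1.map_mul (inv_mem h1) h2, hgj.1.map_inv h1, hgjl x x.2] at h4
        exact h4
    obtain ⟨r₀, hr₀⟩ := hκinn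
    have hv' : (g r₀)⁻¹ * v ∈ centralizerIn S R₁ :=
      mem_centralizerIn_of_conj (mul_mem (inv_mem (hR₁S (hgR.mem r₀.2))) hvS) fun y hy => by
        obtain ⟨x, hx, rfl⟩ := hgR.exists_eq hy
        have e1 : ((κ ⟨x, hx⟩ : R) : Ω) = (r₀ : Ω) * x * (r₀ : Ω)⁻¹ := by rw [← hr₀]; rfl
        rw [hκe] at e1
        have e2 := congrArg g e1
        rw [hgjr _ (normalizerIn_conj hvN (hgR.mem hx)), hgR.1.map_conj r₀.2 hx] at e2
        calc (g r₀)⁻¹ * v * g x * ((g r₀)⁻¹ * v)⁻¹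
            = (g r₀)⁻¹ * (v * g x * v⁻¹) * g r₀ := by group
          _ = (g r₀)⁻¹ * (g r₀ * g x * (g r₀)⁻¹) * g r₀ := by rw [e2]
          _ = g x := by group
    have hvR : v ∈ R₁ := by
      simpa using mul_mem (hgR.mem r₀.2) (hR₁c hv')
    exact hzR (mul_mem hr hvR)
  have hPc : E.IsCentric P := centric_of_fullyNormalized hS hF hEi hPT hP hcP
  have hcard : Nat.card P = Nat.card P₀ := by rw [← hgP, hg.card_img (le_normalizerIn hP₀S)]
  have hPN : P ≤ T := hPT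
  -- the group `A`
  have hrestr : ∀ a ∈ F.autGroup R₁, ∀ x ∈ P, autFn a x ∈ P := fun a ha x hx => hP₁.le
    ⟨autFn_mem a (hPR₁ hx),
      (stronglyClosed_iff.1 hTc).2 R₁ _ (isIso_autFn hR₁S ha).1 x (hPR₁ hx) (hPT hx)⟩
  let A : Subgroup (MulAut R₁) :=
    { carrier := {a | a ∈ F.autGroup R₁ ∧ (∀ x ∈ R₁, x⁻¹ * autFn a x ∈ P) ∧
        ∃ ψ ∈ E.autGroup P, ∀ x ∈ P, autFn a x = autFn ψ x}
      one_mem' := ⟨one_mem _, fun x hx => by rw [autFn_apply _ hx]; simp,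
        1, one_mem _, fun x hx => by rw [autFn_apply _ hx, autFn_apply _ (hPR₁ hx)]; rfl⟩
      mul_mem' := by
        rintro a b ⟨ha, ha', ψ, hψ, hψe⟩ ⟨hb, hb', χ, hχ, hχe⟩
        have hcomp : ∀ x (hx : x ∈ R₁), autFn (a * b) x = autFn a (autFn b x) := fun x hx => by
          refine (autFn_apply (a * b) hx).trans (Eq.trans ?_ (autFn_apply a (autFn_mem b hx)).symm)
          exact congrArg (fun z : R₁ => ((a z : R₁) : Ω)) (Subtype.ext (autFn_apply b hx).symm)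
        refine ⟨mul_mem ha hb, fun x hx => ?_, ψ * χ, mul_mem hψ hχ, fun x hx => ?_⟩
        · rw [hcomp x hx, show x⁻¹ * autFn a (autFn b x) =
            (x⁻¹ * autFn b x) * ((autFn b x)⁻¹ * autFn a (autFn b x)) by group]
          exact mul_mem (hb' x hx) (ha' _ (autFn_mem b hx))
        · rw [hcomp x (hPR₁ hx), hχe x hx, hψe _ (autFn_mem χ hx)]
          refine (autFn_apply ψ (autFn_mem χ hx)).trans (Eq.trans ?_ (autFn_apply (ψ * χ) hx).symm)
          exact congrArg (fun z : P => ((ψ z : P) : Ω)) (Subtype.ext (autFn_apply χ hx))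
      inv_mem' := by
        rintro a ⟨ha, ha', ψ, hψ, hψe⟩
        refine ⟨inv_mem ha, fun x hx => ?_, ψ⁻¹, inv_mem hψ, fun x hx => ?_⟩
        · have h := inv_mem (ha' _ (autFn_mem a⁻¹ hx))
          rw [autFn_apply a (autFn_mem a⁻¹ hx), mul_inv_rev, inv_inv] at h
          have e : (⟨autFn a⁻¹ x, autFn_mem a⁻¹ hx⟩ : R₁) = a⁻¹ ⟨x, hx⟩ :=
            Subtype.ext (autFn_apply a⁻¹ hx)
          rw [e, MulAut.apply_inv_self] at h
          exact h
        · rw [autFn_apply _ (hPR₁ hx), autFn_apply _ hx]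
          have h1 := hψe _ (ψ⁻¹ ⟨x, hx⟩).2
          rw [autFn_apply ψ (ψ⁻¹ ⟨x, hx⟩).2, Subtype.coe_eta, MulAut.apply_inv_self,
            autFn_apply a (hPR₁ (ψ⁻¹ ⟨x, hx⟩).2)] at h1
          have h2 : a ⟨_, hPR₁ (ψ⁻¹ ⟨x, hx⟩).2⟩ = ⟨x, hPR₁ hx⟩ := Subtype.ext h1
          rw [← h2, MulAut.inv_apply_self] }
  have hAn : ∀ a ∈ F.autGroup R₁, ∀ b ∈ A, a * b * a⁻¹ ∈ A := by
    rintro a ha b ⟨hb, hb', ψ, hψ, hψe⟩
    have hval : ∀ x (hx : x ∈ R₁), autFn (a * b * a⁻¹) x = autFn a (autFn b (autFn a⁻¹ x)) := by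
      intro x hx
      rw [autFn_apply _ hx]
      refine Eq.symm ((autFn_apply a (autFn_mem b (autFn_mem a⁻¹ hx))).trans ?_)
      rw [MulAut.mul_apply, MulAut.mul_apply]
      refine congrArg (fun z : R₁ => ((a z : R₁) : Ω)) (Subtype.ext ?_)
      refine (autFn_apply b (autFn_mem a⁻¹ hx)).trans ?_
      exact congrArg (fun z : R₁ => ((b z : R₁) : Ω)) (Subtype.ext (autFn_apply a⁻¹ hx))
    have hai : ∀ x (hx : x ∈ R₁), autFn a (autFn a⁻¹ x) = x := fun x hx => by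
      refine (autFn_apply a (autFn_mem a⁻¹ hx)).trans ?_
      rw [show (⟨autFn a⁻¹ x, autFn_mem a⁻¹ hx⟩ : R₁) = a⁻¹ ⟨x, hx⟩ from
        Subtype.ext (autFn_apply a⁻¹ hx), MulAut.apply_inv_self]
    have haI : IsMap F R₁ (autFn a) := (isIso_autFn hR₁S ha).1
    have hPS : P ≤ S := hP.1
    obtain ⟨aP, haP, haPe⟩ := exists_aut_of_isIso (F := F) (P := P) (f := autFn a)
      ⟨haI.mono hPR₁, eq_of_le_of_card hPS (haI.img_le hPR₁ (hrestr a ha))
        (haI.card_img hPR₁).ge⟩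
    refine ⟨mul_mem (mul_mem ha hb) (inv_mem ha), fun x hx => ?_,
      aP * ψ * aP⁻¹, FusionNormal.conj_mem_autGroup hEi hPT haP hψ, fun x hx => ?_⟩
    · rw [hval x hx]
      have h1 := hrestr a ha _ (hb' _ (autFn_mem a⁻¹ hx))
      rw [haI.map_mul (inv_mem (autFn_mem a⁻¹ hx)) (autFn_mem b (autFn_mem a⁻¹ hx)),
        haI.map_inv (autFn_mem a⁻¹ hx), hai x hx] at h1
      exact h1
    · set w := aP⁻¹ (⟨x, hx⟩ : P)
      have hw : autFn a (w : Ω) = x := by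
        rw [← haPe w, MulAut.apply_inv_self]
      have hw' : autFn a⁻¹ x = w := (isIso_autFn hR₁S ha).1.inj
        (autFn_mem a⁻¹ (hPR₁ hx)) (hPR₁ w.2) (by rw [hai x (hPR₁ hx), hw])
      rw [hval x (hPR₁ hx), hw', hψe _ w.2, autFn_apply ψ w.2, ← haPe, autFn_apply _ hx]
      rfl
  have hAF : A ≤ F.autGroup R₁ := fun a ha => ha.1
  have := finite_mulAut (S := S) hR₁S
  have hXsyl : IsSylowIn p (autInducedBy S R₁ ⊓ A) A :=
    (isFullyAutomized_iff.1 (fullyAutomized_of_fullyNormalized hS hF hR₁)).2.inf_normal hAF hAn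
  let H : Subgroup (MulAut R₁) :=
    { carrier := {a | Ext F T C R₁ (autFn a)}
      one_mem' := ⟨fun x => x, IsMap.id (sup_le (inf_le_left.trans hR₁S) hTS),
        fun x hx _ => by rw [autFn_apply _ hx]; rfl⟩
      mul_mem' := fun {a b} ha hb => by
        obtain ⟨g', hg', he'⟩ := Ext.comp' hS hF hE hb (fun x hx => autFn_mem b hx) ha
        refine ⟨g', hg', fun x hx hxC => (he' x hx hxC).trans ?_⟩
        show autFn a (autFn b x) = _
        refine (autFn_apply a (autFn_mem b hx)).trans (Eq.trans ?_ (autFn_apply (a * b) hx).symm)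
        exact congrArg (fun z : R₁ => ((a z : R₁) : Ω)) (Subtype.ext (autFn_apply b hx))
      inv_mem' := fun {a} ha => by
        obtain ⟨g', hg', he'⟩ := id ha
        have hmem : ∀ x ∈ (R₁ ⊓ C) ⊔ T, g' x ∈ (R₁ ⊓ C) ⊔ T := fun x hx =>
          hg'.forall_mem_sup le_sup_left le_sup_right
            (fun w hw => le_sup_left (b := T) (by
              rw [he' w hw.1 hw.2]; exact ⟨autFn_mem a hw.1, ext_mem hS hF hE ha hw.1 hw.2⟩))
            (fun w hw => le_sup_right (a := R₁ ⊓ C)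
              ((stronglyClosed_iff.1 hTc).2 _ g' hg' w (le_sup_right (a := R₁ ⊓ C) hw) hw)) hx
        refine ⟨g'^[orderOf a - 1], isMap_iterate hg' hmem _, fun x hx hxC => ?_⟩
        rw [iterate_congr (f := autFn a) (M := R₁ ⊓ C)
          (fun w hw => ⟨autFn_mem a hw.1, ext_mem hS hF hE ha hw.1 hw.2⟩)
          (fun w hw => he' w hw.1 hw.2) _ x ⟨hx, hxC⟩, ← autFn_pow a _ hx]
        congr 1
        rw [eq_inv_iff_mul_eq_one, ← pow_succ,
          Nat.sub_add_cancel (orderOf_pos a), pow_orderOf_eq_one] }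
  have hAH : A ≤ H := by
    intro l hl
    refine FusionNormal.autGroup_le_of_sylow_pResidual (H := H) hXsyl ?_ (fun a ha hn => ?_) hl
    · intro a ha
      obtain ⟨s, hs, hse⟩ := mem_autInducedBy_iff.1 ha.1
      exact ⟨fun x => s * x * s⁻¹, IsMap.conj (sup_le (inf_le_left.trans hR₁S) hTS) hs,
        fun x hx _ => ((autFn_apply a hx).trans (hse ⟨x, hx⟩)).symm⟩
    · obtain ⟨ha0, ha', ψ, hψ, hψe⟩ := ha
      set n := orderOf a
      have hψn : Periodic n P (autFn ψ) := fun y hy => by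
        have h1 : (autFn ψ)^[n] y = (autFn a)^[n] y :=
          iterate_congr (fun w hw => hrestr a ha0 w hw) (fun w hw => (hψe w hw).symm) n y hy
        rw [h1, ← autFn_pow a n (hPR₁ hy), pow_orderOf_eq_one, autFn_apply _ (hPR₁ hy)]
        rfl
      obtain ⟨f₀, hf₀⟩ := exists_lift hS hF hE hPc hψ
      obtain ⟨f, L, hper⟩ := hf₀.periodize hS hn hψn
      have hG : Gen F E p P n f := ⟨hP, hPc, hn,
        ((mem_autGroup_iff hPT).1 hψ).congr fun y hy => (L.eq y hy).symm,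
        ⟨L.map, fun _ _ => rfl, L.modP⟩, hper⟩
      refine ⟨fun x => x, IsMap.id (sup_le (inf_le_left.trans hR₁S) hTS), fun x hx hxC => ?_⟩
      have hxD : x ∈ centralizerIn S P := cen_mono hPT (cent_le hE hxC)
      have hsub : P ⊔ Subgroup.zpowers x ≤ R₁ := sup_le hPR₁ ((Subgroup.zpowers_le).2 hx)
      have h1 := eq_of_lift hS hF hP L hn hper hxD
        (((isIso_autFn hR₁S ha0).1).mono hsub) (fun y hy => (hψe y hy).trans (L.eq y hy).symm)
        (ha' x hx) (by rw [← autFn_pow a n hx, pow_orderOf_eq_one, autFn_apply _ hx]; rfl)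
      rw [← h1, cent_fixed hE hG hxC]
  -- Frattini
  have hconjle : (autInducedBy S R₁ ⊓ A : Subgroup (MulAut R₁)).map
      (MulAut.conj α₁).toMonoidHom ≤ A := by
    rintro _ ⟨b, hb, rfl⟩
    exact hAn α₁ hα₁ b hb.2
  obtain ⟨a, ha, hac⟩ := hXsyl.exists_conj_le (hXsyl.isPGroup.map _) hconjle
  have hν : a * α₁ ∈ F.autGroup R₁ := mul_mem ha.1 hα₁
  obtain ⟨f, hf, hfe, -⟩ := FusionChain.exists_extension_NK
    (receptive_of_fullyNormalized hS hF hR₁) hν A fun k hk => by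
      have := hac _ ⟨k, hk, rfl⟩
      simpa [mul_assoc] using this
  have hVlt : R₁ < R₁ ⊔ T := lt_of_le_of_ne le_sup_left fun e => by
    have hTR₁ : T ≤ R₁ := e ▸ le_sup_right
    have hPT' : P = T := by rw [← hP₁, inf_eq_right.2 hTR₁]
    exact hP₀lt.ne (eq_of_le_of_card hTS hP₀T (by rw [← hcard, hPT']))
  obtain ⟨z, hz, hzR⟩ := SetLike.exists_of_lt
    (lt_normalizerIn hS (sup_le hR₁S hTS) hVlt)
  obtain ⟨r, hr, t, ht, rfl⟩ := exists_eq_mul (fun r hr t ht => hTn r (hR₁S hr) t ht) hz.1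
  have htR : t ∉ R₁ := fun h => hzR (mul_mem hr h)
  have htN : t ∈ normalizerIn S R₁ := by
    have h1 : r * t ∈ normalizerIn S R₁ := ⟨mul_mem (hR₁S hr) (hTS ht), hz.2⟩
    simpa using mul_mem (inv_mem (le_normalizerIn hR₁S hr)) h1
  have htP : t ∈ normalizerIn S P := by
    have := finite_of_le hP.1
    exact mem_normalizerIn_of_conj (hTS ht) fun x hx =>
      hP₁.le ⟨normalizerIn_conj htN (hPR₁ hx), hTn t (hTS ht) x (hPT hx)⟩
  have htK : t ∈ NK S R₁ A := by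
    refine mem_NK.2 ⟨hTS ht, normConj S R₁ ⟨t, htN⟩, ⟨?_, fun x hx => ?_, ?_⟩, fun x => rfl⟩
    · exact autInducedBy_le_autGroup F le_rfl hR₁S (range_normConj S R₁ ▸ ⟨_, rfl⟩)
    · rw [autFn_apply _ hx]
      show x⁻¹ * (t * x * t⁻¹) ∈ P
      refine hP₁.le ⟨mul_mem (Subgroup.inv_mem _ hx) (normalizerIn_conj htN hx), ?_⟩
      rw [show x⁻¹ * (t * x * t⁻¹) = (x⁻¹ * t * x⁻¹⁻¹) * t⁻¹ by group]
      exact mul_mem (hTn _ (Subgroup.inv_mem _ (hR₁S hx)) t ht) (Subgroup.inv_mem _ ht)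
    · refine ⟨normConj T P ⟨t, ⟨ht, htP.2⟩⟩,
        autInducedBy_le_autGroup E le_rfl hPT (range_normConj T P ▸ ⟨_, rfl⟩), fun x hx => ?_⟩
      rw [autFn_apply _ hx, autFn_apply _ (hPR₁ hx)]
      rfl
  have hbig : Nat.card P₀ < Nat.card ((R₁ ⊔ NK S R₁ A) ⊓ T : Subgroup Ω) := by
    rw [← hcard]
    have hle : P ≤ (R₁ ⊔ NK S R₁ A) ⊓ T := le_inf (hPR₁.trans le_sup_left) hPT
    have := finite_of_le (S := T) (P := (R₁ ⊔ NK S R₁ A) ⊓ T) inf_le_right
    refine lt_of_le_of_ne (Subgroup.card_le_of_le hle) fun e => ?_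
    have he := eq_of_le_of_card (S := T) inf_le_right hle e.ge
    exact htR (hPR₁ (he.symm.le ⟨le_sup_right (a := R₁) htK, ht⟩))
  have hpν := big _ f hf hbig
  obtain ⟨G, hG, hGe⟩ := hpν
  have h1 : Ext F T C R₁ (autFn (a * α₁)) :=
    ⟨G, hG.mono (sup_le_sup_right (inf_le_inf_right C le_sup_left) T),
      fun x hx hxC => (hGe x (le_sup_left (b := NK S R₁ A) hx) hxC).trans (hfe x hx)⟩
  obtain ⟨G', hG', hG'e⟩ := Ext.comp' hS hF hE h1 (fun x hx => autFn_mem _ hx)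
    (hAH (inv_mem ha) : Ext F T C R₁ (autFn a⁻¹))
  refine ⟨G', hG', fun x hx hxC => (hG'e x hx hxC).trans ?_⟩
  show autFn a⁻¹ (autFn (a * α₁) x) = _
  rw [autFn_apply _ (autFn_mem (a * α₁) hx),
    show (⟨autFn (a * α₁) x, autFn_mem (a * α₁) hx⟩ : R₁) = (a * α₁) ⟨x, hx⟩ from
      Subtype.ext (autFn_apply _ hx), MulAut.mul_apply, MulAut.inv_apply_self,
    ← autFn_apply α₁ hx]

include hS hF in
theorem ext_cent {U : Subgroup Ω} {u : Ω → Ω} (hu : IsMap F U u) :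
    Ext F T (cent F E p hE.1.2.2) U u := by
  set C := cent F E p hE.1.2.2
  have hTc := hE.1.2.2.2.1
  suffices H : ∀ d k, Nat.card T ≤ k + d →
      ∀ U u, IsMap F U u → k ≤ Nat.card (U ⊓ T : Subgroup Ω) → Ext F T C U u from
    H (Nat.card T) 0 (Nat.le_add_left _ _) U u hu (Nat.zero_le _)
  intro d
  induction d using Nat.strong_induction_on with
  | _ d ih =>
  intro k hk U u hu hkU
  have hfinT := finite_of_le hTc.1
  refine FusionChain.alperin hS hF
    (fun U u => k ≤ Nat.card (U ⊓ T : Subgroup Ω) → Ext F T C U u) ?_ ?_ ?_ ?_ hu hkU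
  · intro P f g _ h e hk
    obtain ⟨G, hG, hGe⟩ := h hk
    exact ⟨G, hG, fun x hx hxC => (hGe x hx hxC).trans (e x hx)⟩
  · intro P P' f hf hle h hk
    have := finite_of_le (S := S) (P := P ⊓ T) (inf_le_left.trans hf.le)
    obtain ⟨G, hG, hGe⟩ := h (hk.trans (Subgroup.card_le_of_le (inf_le_inf_right T hle)))
    exact ⟨G, hG.mono (sup_le_sup_right (inf_le_inf_right C hle) T), fun x hx => hGe x (hle hx)⟩
  · intro P P' f g hf hg hfP h h' hk
    refine Ext.comp' hS hF hE (h hk) hfP (h' ?_)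
    refine hk.trans ?_
    rw [← hf.card_img (inf_le_left : P ⊓ T ≤ P)]
    have := finite_of_le (S := S) (P := P' ⊓ T) (inf_le_left.trans hg.le)
    exact Subgroup.card_le_of_le (hf.img_le inf_le_left fun y hy =>
      ⟨hfP y hy.1, (stronglyClosed_iff.1 hTc).2 P f hf y hy.1 hy.2⟩)
  · intro R hR hRc hRr α hα hkR
    have hcardle : ∀ V : Subgroup Ω, Nat.card (V ⊓ T : Subgroup Ω) ≤ Nat.card T := fun V =>
      Subgroup.card_le_of_le inf_le_right
    rcases eq_or_lt_of_le hkR with heq | hlt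
    · refine ext_step hS hF hE hR hRc hRr hα fun V v hv hVlt => ?_
      have h1 := hcardle V
      exact ih (d - 1) (by omega) (k + 1) (by omega) V v hv (by omega)
    · have h1 := hcardle R
      exact ih (d - 1) (by omega) (k + 1) (by omega) R _ (isIso_autFn hR.1 hα).1 (by omega)

include hS hF in
/-- A map between subgroups of `C_S(E)` extends to `T`. -/
theorem exists_extension_cent {P : Subgroup Ω} (hP : P ≤ cent F E p hE.1.2.2) {f : Ω → Ω}
    (hf : IsMap F P f) : ∃ g, IsMap F (P ⊔ T) g ∧ ∀ x ∈ P, g x = f x := by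
  obtain ⟨g, hg, he⟩ := ext_cent hS hF hE hf
  rw [inf_eq_left.2 hP] at hg
  exact ⟨g, hg, fun x hx => he x hx (hP hx)⟩

include hS hF in
theorem stronglyClosed_cent : F.StronglyClosed (cent F E p hE.1.2.2) :=
  stronglyClosed_iff.2 ⟨(cent_le hE).trans inf_le_left, fun _ _ hu _ hx hxC =>
    ext_mem hS hF hE (ext_cent hS hF hE hu) hx hxC⟩

end Cfsg.Agent.FusionNormalCent
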