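import Cfsg.Agent.Lib.FusionNormalCent.Existence

/-
The centralizer in `S` of a normal subsystem: the largest subgroup of `C_S(T)` fixed by extensions of
all maps of `E`.
Main results: `Fix`, `Centralizes`, `centralizes_iff`, `Centralizes.transport`, `cent`,
`centralizes_le_cent`, `cent_centralizes`, `focal_le_cent`.
-/

set_option autoImplicit false

namespace Cfsg.Agent.FusionNormalCent

open Cfsg Cfsg.FusionSystem Cfsg.Agent.Fusion

variable {Ω : Type*} [Group Ω] {S T : Subgroup Ω} {F : FusionSystem S} {E : FusionSystem T} {p : ℕ}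

/-- `f` extends to a map fixing `X` pointwise. -/
def Fix (F : FusionSystem S) (X P : Subgroup Ω) (f : Ω → Ω) : Prop :=
  ∃ g, IsMap F (P ⊔ X) g ∧ (∀ x ∈ P, g x = f x) ∧ ∀ y ∈ X, g y = y

/-- `X ≤ C_S(T)` is centralized by `E`. -/
def Centralizes (F : FusionSystem S) (E : FusionSystem T) (X : Subgroup Ω) : Prop :=
  X ≤ centralizerIn S T ∧ ∀ P f, IsMap E P f → Fix F X P f

theorem centralizes_iff (hTS : T ≤ S) {X : Subgroup Ω} (hX : X ≤ centralizerIn S T) :
    (∀ P, E.Hom P ⊆ F.centralizerHom X P) ↔ Centralizes F E X := by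
  have hTc : T ≤ centralizerIn S X := fun t ht => mem_centralizerIn.2
    ⟨hTS ht, fun x hx => ((mem_centralizerIn.1 (hX hx)).2 t ht).symm⟩
  constructor
  · refine fun h => ⟨hX, fun P f hf => ?_⟩
    obtain ⟨φ, hφ, e⟩ := hf
    obtain ⟨-, -, -, ψ, hψ, h1, h2⟩ := h P hφ
    refine ⟨toFn ψ, isMap_toFn hψ, fun x hx => ?_, fun y hy => ?_⟩
    · rw [toFn_apply ψ (le_sup_left (b := X) hx), ← e x hx]
      exact h1 ⟨x, hx⟩
    · rw [toFn_apply ψ (le_sup_right (a := P) hy)]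
      exact h2 ⟨y, hy⟩
  · rintro ⟨-, h⟩ P φ hφ
    obtain ⟨g, hg, h1, h2⟩ := h P _ (isMap_toFn hφ)
    obtain ⟨ψ, hψ, e⟩ := hg
    have hm : φ ∈ F.Hom P :=
      mem_of_isMap ((IsMap.mono ⟨ψ, hψ, e⟩ le_sup_left).congr h1) fun x => (toFn_coe φ x).symm
    refine ⟨hm, (E.le_of_mem hφ).1.trans hTc, fun x => hTc ((E.le_of_mem hφ).2 x), ψ, hψ,
      fun x => ?_, fun y => ?_⟩
    · exact ((e x (le_sup_left (b := X) x.2)).trans (h1 x x.2)).trans (toFn_coe φ x)
    · exact (e y (le_sup_right (a := P) y.2)).trans (h2 y y.2)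

theorem Centralizes.mono {X Y : Subgroup Ω} (h : Centralizes F E X) (hYX : Y ≤ X) :
    Centralizes F E Y :=
  ⟨hYX.trans h.1, fun P f hf => by
    obtain ⟨g, hg, h1, h2⟩ := h.2 P f hf
    exact ⟨g, hg.mono (sup_le_sup_left hYX P), h1, fun y hy => h2 y (hYX hy)⟩⟩

/-- A map whose source contains `T` maps it onto itself. -/
theorem img_strongly [Finite S] (hT : F.StronglyClosed T) {M : Subgroup Ω} {g : Ω → Ω}
    (hg : IsMap F M g) (hM : T ≤ M) : img g T = T :=
  eq_of_le_of_card hT.1 (hg.img_le hM fun x hx => (stronglyClosed_iff.1 hT).2 M g hg x (hM hx) hx)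
    (hg.card_img hM).ge

/-- A map defined on `T C_S(T)` restricts to an automorphism of it. -/
theorem isIso_dom_of_map [Finite S] (hT : F.StronglyClosed T) {M : Subgroup Ω} {g : Ω → Ω}
    (hg : IsMap F M g) (hM : Dom S T ≤ M) : IsIso F (Dom S T) (Dom S T) g := by
  have hgT := img_strongly hT hg ((le_dom S T).trans hM)
  have hmem : ∀ x ∈ Dom S T, g x ∈ Dom S T := fun x hx =>
    hg.forall_mem_sup ((le_dom S T).trans hM) ((cen_le_dom S T).trans hM)
      (fun w hw => le_dom S T (hgT.le (hg.mem_img hw)))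
      (fun w hw => cen_le_dom S T
        (map_centralizerIn hg ((le_dom S T).trans hM) hgT (hM (cen_le_dom S T hw)) hw)) hx
  exact ⟨hg.mono hM, eq_of_le_of_card (dom_le hT.1) (hg.img_le hM hmem) (hg.card_img hM).ge⟩

theorem fullyNormalized_strongly [Finite S] (hT : F.StronglyClosed T) : F.IsFullyNormalized T :=
  have := finite_of_le (S := S) (P := normalizerIn S T) inf_le_left
  ⟨hT.1, fun Q _ => Subgroup.card_le_of_le
    (inf_le_left.trans (le_inf le_rfl (normalizes_of_stronglyClosed hT)) :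
      normalizerIn S Q ≤ normalizerIn S T)⟩

/-- Automorphisms of `T` extend to `T C_S(T)`. -/
theorem extend_aut [Finite S] [Fact p.Prime] (hS : IsPGroup p S) (hF : F.IsSaturated p)
    (hT : F.StronglyClosed T) {α : MulAut T} (hα : α ∈ F.autGroup T) :
    ∃ a, IsIso F (Dom S T) (Dom S T) a ∧ ∀ x ∈ T, a x = autFn α x := by
  have hI := isIso_autFn hT.1 hα
  obtain ⟨a, ha, hae⟩ := (isReceptive_iff.1
    (receptive_of_fullyNormalized hS hF (fullyNormalized_strongly hT))).2 T _ hI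
  exact ⟨a, isIso_dom_of_map hT ha (sup_le (le_Nx hI.1) (centralizerIn_le_Nx S T (autFn α))), hae⟩

/-- Maps defined on `T` carry centralized subgroups to centralized subgroups. -/
theorem Centralizes.transport [Finite S] (hE : E.IsInvariantIn F) {X M : Subgroup Ω} {g : Ω → Ω}
    (hX : Centralizes F E X) (hg : IsMap F M g) (hTM : T ≤ M) (hXM : X ≤ M) :
    Centralizes F E (img g X) := by
  have hgT := img_strongly hE.2.1 hg hTM
  refine ⟨hg.img_le hXM fun x hx => map_centralizerIn hg hTM hgT (hXM hx) (hX.1 hx),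
    fun P f hf => ?_⟩
  obtain ⟨gi, hgi, hgl, hgr⟩ := hg.isIso.symm
  have hPT : P ≤ T := hf.le
  have hTimg : T ≤ img g M := fun t ht => by
    rw [← hgT] at ht
    obtain ⟨x, hx, rfl⟩ := (hg.mem_img_iff hTM).1 ht
    exact hg.mem_img (hTM hx)
  have hgiI : IsIso F T T gi := ⟨hgi.1.mono hTimg, img_strongly hE.2.1 hgi.1 hTimg⟩
  obtain ⟨α, hα, hαe⟩ := exists_aut_of_isIso hgiI
  obtain ⟨f', hf', hf'e⟩ := FusionNormal.transport_map hE hPT hf hα
  have hαg : ∀ t ∈ T, autFn α t = gi t := fun t ht => (autFn_apply α ht).trans (hαe ⟨t, ht⟩)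
  obtain ⟨G, hG, hG1, hG2⟩ := hX.2 _ _ hf'
  have himgX : ∀ y ∈ img g X, gi y ∈ X := fun y hy => by
    obtain ⟨x, hx, rfl⟩ := (hg.mem_img_iff hXM).1 hy
    rw [hgl x (hXM hx)]
    exact hx
  have hdom : P ⊔ img g X ≤ img g M := sup_le (hPT.trans hTimg)
    (hg.img_le hXM fun x hx => hg.mem_img (hXM hx))
  have hgiP : ∀ x ∈ P, gi x ∈ img (autFn α) P := fun x hx => by
    rw [← hαg x (hPT hx)]
    exact Subgroup.subset_closure ⟨x, hx, rfl⟩
  have hmid : ∀ z ∈ P ⊔ img g X, gi z ∈ img (autFn α) P ⊔ X := fun z hz =>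
    hgi.1.forall_mem_sup (hPT.trans hTimg) (le_sup_right.trans hdom)
      (fun w hw => le_sup_left (b := X) (hgiP w hw))
      (fun w hw => le_sup_right (a := img (autFn α) P) (himgX w hw)) hz
  have hGM : ∀ z ∈ img (autFn α) P ⊔ X, G z ∈ M := fun z hz =>
    hG.forall_mem_sup le_sup_left le_sup_right
      (fun w hw => by rw [hG1 w hw]; exact hTM (hf'.mem hw))
      (fun w hw => by rw [hG2 w hw]; exact hXM hw) hz
  refine ⟨fun z => g (G (gi z)), ((hgi.1.mono hdom).comp hG hmid).comp hg fun z hz => hGM _ (hmid z hz),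
    fun x hx => ?_, fun y hy => ?_⟩
  · show g (G (gi x)) = f x
    rw [hG1 _ (hgiP x hx), ← hαg x (hPT hx), hf'e x hx, hαg _ (hf.mem hx),
      hgr _ (hTimg (hf.mem hx))]
  · show g (G (gi y)) = y
    rw [hG2 _ (himgX y hy), hgr y (hdom (le_sup_right (a := P) hy))]

/-- The data tested by the centralizer: periodic lifts of maps of `E`. -/
def Gen (F : FusionSystem S) (E : FusionSystem T) (p : ℕ) (P : Subgroup Ω) (n : ℕ) (f : Ω → Ω) :
    Prop :=
  F.IsFullyNormalized P ∧ E.IsCentric P ∧ n.Coprime p ∧ IsMap E P f ∧ Lift F P f f ∧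
    Periodic n (Dom S P) f

theorem cen_le_dom_of_le {P : Subgroup Ω} (hP : P ≤ T) : centralizerIn S T ≤ Dom S P :=
  fun _ hx => cen_le_dom S P (mem_centralizerIn.2
    ⟨hx.1, fun y hy => (mem_centralizerIn.1 hx).2 y (hP hy)⟩)

theorem cen_mono {P : Subgroup Ω} (hP : P ≤ T) : centralizerIn S T ≤ centralizerIn S P :=
  fun _ hx => mem_centralizerIn.2 ⟨hx.1, fun y hy => (mem_centralizerIn.1 hx).2 y (hP hy)⟩

theorem dom_mem [Finite S] (hT : F.StronglyClosed T) {a : Ω → Ω}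
    (ha : IsIso F (Dom S T) (Dom S T) a) {x : Ω} (hx : x ∈ centralizerIn S T) :
    a x ∈ centralizerIn S T :=
  map_centralizerIn ha.1 (le_dom S T) (img_strongly hT ha.1 (le_dom S T)) (cen_le_dom S T hx) hx

/-- `C_S(E)`. -/
def cent (F : FusionSystem S) (E : FusionSystem T) (p : ℕ) [Finite S] (hE : E.IsInvariantIn F) :
    Subgroup Ω where
  carrier := {x | x ∈ centralizerIn S T ∧ ∀ a, IsIso F (Dom S T) (Dom S T) a →
    ∀ P n f, Gen F E p P n f → f (a x) = a x}
  one_mem' := ⟨one_mem _, fun a ha P n f hf => by rw [ha.1.map_one, hf.2.2.2.2.1.map.map_one]⟩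
  mul_mem' := by
    rintro x y ⟨hx, hx'⟩ ⟨hy, hy'⟩
    refine ⟨mul_mem hx hy, fun a ha P n f hf => ?_⟩
    have hle := cen_le_dom_of_le (S := S) hf.2.1.1
    rw [ha.1.map_mul (cen_le_dom S T hx) (cen_le_dom S T hy),
      hf.2.2.2.2.1.map.map_mul (hle (dom_mem hE.2.1 ha hx)) (hle (dom_mem hE.2.1 ha hy)),
      hx' a ha P n f hf, hy' a ha P n f hf]
  inv_mem' := by
    rintro x ⟨hx, hx'⟩
    refine ⟨inv_mem hx, fun a ha P n f hf => ?_⟩
    rw [ha.1.map_inv (cen_le_dom S T hx),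
      hf.2.2.2.2.1.map.map_inv (cen_le_dom_of_le hf.2.1.1 (dom_mem hE.2.1 ha hx)),
      hx' a ha P n f hf]

variable [Finite S] (hE : E.IsNormalIn F p)

theorem cent_le : cent F E p hE.1.2.2 ≤ centralizerIn S T := fun _ hx => hx.1

theorem cent_fixed {P : Subgroup Ω} {n : ℕ} {f : Ω → Ω} (hf : Gen F E p P n f) {x : Ω}
    (hx : x ∈ cent F E p hE.1.2.2) : f x = x :=
  hx.2 _ (IsIso.refl (dom_le hE.1.2.2.2.1.1)) P n f hf

theorem cent_invariant {a : Ω → Ω} (ha : IsIso F (Dom S T) (Dom S T) a) {x : Ω}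
    (hx : x ∈ cent F E p hE.1.2.2) : a x ∈ cent F E p hE.1.2.2 :=
  ⟨dom_mem hE.1.2.2.2.1 ha hx.1, fun b hb P n f hf => hx.2 _ (ha.trans hb) P n f hf⟩

theorem cent_conj {s x : Ω} (hs : s ∈ S) (hx : x ∈ cent F E p hE.1.2.2) :
    s * x * s⁻¹ ∈ cent F E p hE.1.2.2 :=
  cent_invariant hE
    (isIso_dom_of_map hE.1.2.2.2.1 (IsMap.conj le_rfl hs) (dom_le hE.1.2.2.2.1.1)) hx

variable [Fact p.Prime] (hS : IsPGroup p S) (hF : F.IsSaturated p)

include hS hF in
theorem centralizes_le_cent {X : Subgroup Ω} (hX : Centralizes F E X) :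
    X ≤ cent F E p hE.1.2.2 := by
  intro x hx
  refine ⟨hX.1 hx, fun a ha P n f hf => ?_⟩
  obtain ⟨hP, hPc, hn, hfE, L, hper⟩ := hf
  have hXW : X ≤ Dom S T := hX.1.trans (cen_le_dom S T)
  obtain ⟨G, hG, hG1, hG2⟩ := (hX.transport hE.1.2.2 ha.1 (le_dom S T) hXW).2 P f hfE
  have hy : a x ∈ img a X := ha.1.mem_img hx
  have hyD : a x ∈ centralizerIn S P := cen_mono hPc.1 (dom_mem hE.1.2.2.2.1 ha (hX.1 hx))
  have hGy := hG2 _ hy
  rw [eq_of_lift hS hF hP L hn hper hyD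
    (hG.mono (sup_le_sup_left ((Subgroup.zpowers_le).2 hy) P)) hG1
    (by rw [hGy, inv_mul_cancel]; exact one_mem _) (Function.iterate_fixed hGy n), hGy]

theorem fix_conj {P : Subgroup Ω} (hP : P ≤ T) {t : Ω} (ht : t ∈ T) :
    Fix F (cent F E p hE.1.2.2) P fun x => t * x * t⁻¹ :=
  ⟨_, IsMap.conj (sup_le (hP.trans hE.1.2.2.2.1.1) ((cent_le hE).trans inf_le_left))
    (hE.1.2.2.2.1.1 ht), fun x _ => rfl,
    fun y hy => by rw [← (mem_centralizerIn.1 (cent_le hE hy)).2 t ht, mul_inv_cancel_right]⟩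

include hS hF in
/-- All automorphisms in `E` of a fully normalized centric subgroup fix `C_S(E)`. -/
theorem fix_aut {P : Subgroup Ω} (hP : F.IsFullyNormalized P) (hPc : E.IsCentric P)
    {ψ : MulAut P} (hψ : ψ ∈ E.autGroup P) : Fix F (cent F E p hE.1.2.2) P (autFn ψ) := by
  have hTS : T ≤ S := hE.1.2.2.2.1.1
  have hPT := hPc.1
  have := finite_of_le hTS
  have hT : IsPGroup p T := hS.to_le hTS
  have := finite_mulAut (S := S) hP.1
  set C := cent F E p hE.1.2.2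
  have hCD : C ≤ Dom S P := (cent_le hE).trans (cen_le_dom_of_le hPT)
  let H : Subgroup (MulAut P) :=
    { carrier := {a | Fix F C P (autFn a)}
      one_mem' := ⟨fun x => x, IsMap.id (sup_le hP.1 ((cent_le hE).trans inf_le_left)),
        fun x hx => by rw [autFn_apply _ hx]; rfl, fun _ _ => rfl⟩
      mul_mem' := by
        rintro a b ⟨ga, hga, ha1, ha2⟩ ⟨gb, hgb, hb1, hb2⟩
        refine ⟨fun x => ga (gb x), hgb.comp hga fun x hx => hgb.forall_mem_sup le_sup_left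
          le_sup_right (fun w hw => le_sup_left (b := C) (by rw [hb1 w hw]; exact autFn_mem b hw))
          (fun w hw => le_sup_right (a := P) ((hb2 w hw).symm ▸ hw)) hx,
          fun x hx => ?_, fun y hy => ?_⟩
        · show ga (gb x) = _
          rw [hb1 x hx, ha1 _ (autFn_mem b hx)]
          refine (autFn_apply a (autFn_mem b hx)).trans (Eq.trans ?_ (autFn_apply (a * b) hx).symm)
          exact congrArg (fun z : P => ((a z : P) : Ω)) (Subtype.ext (autFn_apply b hx))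
        · show ga (gb y) = y
          rw [hb2 y hy, ha2 y hy]
      inv_mem' := by
        rintro a ⟨ga, hga, ha1, ha2⟩
        have hmem : ∀ x ∈ P ⊔ C, ga x ∈ P ⊔ C := fun x hx => hga.forall_mem_sup le_sup_left
          le_sup_right (fun w hw => le_sup_left (b := C) (by rw [ha1 w hw]; exact autFn_mem a hw))
          (fun w hw => le_sup_right (a := P) ((ha2 w hw).symm ▸ hw)) hx
        refine ⟨ga^[orderOf a - 1], isMap_iterate hga hmem _, fun x hx => ?_,
          fun y hy => Function.iterate_fixed (ha2 y hy) _⟩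
        rw [iterate_congr (fun w hw => autFn_mem a hw) ha1 _ x hx, ← autFn_pow a _ hx]
        congr 1
        rw [eq_inv_iff_mul_eq_one, ← pow_succ,
          Nat.sub_add_cancel (orderOf_pos a), pow_orderOf_eq_one] }
  show ψ ∈ H
  refine FusionNormal.autGroup_le_of_sylow_pResidual (H := H)
    (isFullyAutomized_iff.1 (fullyAutomized_of_fullyNormalized hT hE.1.1
      (fullyNormalized_sub hS hF hE.1.2.2 hPT hP))).2 (fun a ha => ?_) (fun a ha hn => ?_) hψ
  · obtain ⟨t, ht, hte⟩ := mem_autInducedBy_iff.1 ha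
    obtain ⟨g, hg, h1, h2⟩ := fix_conj hE hPT ht
    exact ⟨g, hg, fun x hx => (h1 x hx).trans ((autFn_apply a hx).trans (hte ⟨x, hx⟩)).symm, h2⟩
  · obtain ⟨f, L, hper⟩ := exists_periodic_lift hS hF hE hPc ha hn
    have hG : Gen F E p P (orderOf a) f := ⟨hP, hPc, hn,
      ((mem_autGroup_iff hPT).1 ha).congr fun x hx => (L.eq x hx).symm,
      ⟨L.map, fun _ _ => rfl, L.modP⟩, hper⟩
    exact ⟨f, L.map.mono (sup_le (le_dom S P) hCD), L.eq, fun y hy => cent_fixed hE hG hy⟩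

include hS hF in
theorem cent_centralizes : Centralizes F E (cent F E p hE.1.2.2) := by
  have hEi := hE.1.2.2
  have hTS : T ≤ S := hEi.2.1.1
  have := finite_of_le hTS
  have hT : IsPGroup p T := hS.to_le hTS
  refine ⟨cent_le hE, fun P f hf => ?_⟩
  set C := cent F E p hEi
  have hCS : C ≤ S := (cent_le hE).trans inf_le_left
  refine FusionChain.alperin_induction hT hE.1.1 (fun P f => Fix F C P f) ?_ ?_ ?_ ?_ hf
  · rintro P f g - ⟨G, hG, h1, h2⟩ he
    exact ⟨G, hG, fun x hx => (h1 x hx).trans (he x hx), h2⟩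
  · rintro P P' f - hle ⟨G, hG, h1, h2⟩
    exact ⟨G, hG.mono (sup_le_sup_right hle C), fun x hx => h1 x (hle hx), h2⟩
  · rintro P P' f g - - hfP ⟨G, hG, h1, h2⟩ ⟨G', hG', h1', h2'⟩
    refine ⟨fun x => G' (G x), hG.comp hG' fun x hx => hG.forall_mem_sup le_sup_left le_sup_right
      (fun w hw => le_sup_left (b := C) (by rw [h1 w hw]; exact hfP w hw))
      (fun w hw => le_sup_right (a := P') ((h2 w hw).symm ▸ hw)) hx, fun x hx => ?_, fun y hy => ?_⟩
    · show G' (G x) = g (f x)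
      rw [h1 x hx, h1' _ (hfP x hx)]
    · show G' (G y) = y
      rw [h2 y hy, h2' y hy]
  intro R hR hRc _ ψ hψ big
  have hRT := hR.1
  by_cases hRTeq : R = T
  · obtain rfl := hRTeq
    exact fix_aut hE hS hF (fullyNormalized_strongly hEi.2.1) hRc hψ
  have hRS := hRT.trans hTS
  obtain ⟨R', g, hR', hg, hgR, -⟩ := exists_fullyNormalized_map hS hF hRS
  set U := normalizerIn T R
  have hUT : U ≤ T := inf_le_left
  have hUN : U ≤ normalizerIn S R := inf_le_inf_right _ hTS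
  have hRU : R ≤ U := le_normalizerIn hRT
  obtain ⟨α, hα, f₀, hf₀, he⟩ := FusionNormal.frattini_map hEi hUT (hg.mono hUN)
  have hlt : Nat.card R < Nat.card U := by
    have h1 := lt_normalizerIn hT le_rfl (lt_of_le_of_ne hRT hRTeq)
    have := finite_of_le (S := T) (P := U) inf_le_left
    exact lt_of_le_of_ne (Subgroup.card_le_of_le hRU)
      fun e => h1.ne (eq_of_le_of_card inf_le_left hRU e.ge)
  obtain ⟨G₀, hG₀, hG₀1, hG₀2⟩ := big U f₀ hf₀ hlt
  obtain ⟨a, ha, hae⟩ := extend_aut hS hF hEi.2.1 hα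
  have hg0 : IsIso F R R' g := ⟨hg.mono (le_normalizerIn hRS), hgR⟩
  have hR'c : E.IsCentric R' := centric_of_conj hEi hRc (isConj_iff.2 ⟨g, hg0⟩)
  have hRC : R ⊔ C ≤ U ⊔ C := sup_le_sup_right hRU C
  have hCW : C ≤ Dom S T := (cent_le hE).trans (cen_le_dom S T)
  have hG₀W : ∀ x ∈ R ⊔ C, G₀ x ∈ Dom S T := fun x hx =>
    hG₀.forall_mem_sup (hRU.trans le_sup_left) le_sup_right
      (fun w hw => le_dom S T (by rw [hG₀1 w (hRU hw)]; exact hf₀.mem (hRU hw)))
      (fun w hw => hCW ((hG₀2 w hw).symm ▸ hw)) hx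
  have hk : IsMap F (R ⊔ C) fun x => a (G₀ x) := (hG₀.mono hRC).comp ha.1 hG₀W
  have hkR : ∀ x ∈ R, a (G₀ x) = g x := fun x hx => by
    rw [hG₀1 x (hRU hx), hae _ (hf₀.mem (hRU hx)), he x (hRU hx)]
  have hkC : ∀ y ∈ C, a (G₀ y) = a y := fun y hy => by rw [hG₀2 y hy]
  have haC : img a C = C := eq_of_le_of_card hCS
    (ha.1.img_le hCW fun y hy => cent_invariant hE ha hy) (ha.1.card_img hCW).ge
  have hkI : IsIso F (R ⊔ C) (R' ⊔ C) fun x => a (G₀ x) := by
    refine ⟨hk, le_antisymm (hk.img_le le_rfl fun x hx => hk.forall_mem_sup le_sup_left le_sup_right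
      (fun w hw => le_sup_left (b := C) (show a (G₀ w) ∈ R' by rw [hkR w hw]; exact hg0.mem hw))
      (fun w hw => le_sup_right (a := R') (show a (G₀ w) ∈ C by
        rw [hkC w hw]; exact cent_invariant hE ha hw)) hx) (sup_le ?_ ?_)⟩
    · intro z hz
      obtain ⟨x, hx, rfl⟩ := hg0.exists_eq hz
      exact (hk.mem_img_iff le_rfl).2 ⟨x, le_sup_left (b := C) hx, hkR x hx⟩
    · intro z hz
      rw [← haC] at hz
      obtain ⟨x, hx, rfl⟩ := (ha.1.mem_img_iff hCW).1 hz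
      exact (hk.mem_img_iff le_rfl).2 ⟨x, le_sup_right (a := R) hx, hkC x hx⟩
  obtain ⟨ki, hki, hkl, -⟩ := hkI.symm
  obtain ⟨G, hG, hG1, hG2⟩ := fix_aut hE hS hF hR' hR'c
    (FusionNormal.congr_mem_autGroup hEi hg0 hRT hψ)
  have hGmem : ∀ x ∈ R' ⊔ C, G x ∈ R' ⊔ C := fun x hx => hG.forall_mem_sup le_sup_left le_sup_right
    (fun w hw => le_sup_left (b := C) (by rw [hG1 w hw]; exact autFn_mem _ hw))
    (fun w hw => le_sup_right (a := R') ((hG2 w hw).symm ▸ hw)) hx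
  refine ⟨fun x => ki (G (a (G₀ x))),
    (hk.comp hG fun x hx => hkI.mem hx).comp hki.1 fun x hx => hGmem _ (hkI.mem hx),
    fun x hx => ?_, fun y hy => ?_⟩
  · show ki (G (a (G₀ x))) = _
    have hψx : autFn ψ x ∈ R := autFn_mem ψ hx
    rw [hkR x hx, hG1 _ (hg0.mem hx), autFn_apply _ (hg0.mem hx),
      show (⟨g x, hg0.mem hx⟩ : R') = hg0.equiv ⟨x, hx⟩ from Subtype.ext (hg0.equiv_apply ⟨x, hx⟩).symm,
      congr_apply_coe, ← autFn_apply ψ hx, ← hkR _ hψx]
    exact hkl _ (le_sup_left (b := C) hψx)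
  · show ki (G (a (G₀ y))) = y
    rw [hG2 (a (G₀ y)) (by rw [hkC y hy]; exact cent_invariant hE ha hy)]
    exact hkl y (le_sup_right (a := R) hy)

include hS hF in
/-- The focal subgroup of `C_F(T)` lies in `C_S(E)`. -/
theorem focal_le_cent {D : FusionSystem (centralizerIn S T)} (hD : F.IsCentralizerSystem T D) :
    D.focalSubgroup ≤ cent F E p hE.1.2.2 := by
  refine (Subgroup.closure_le _).2 ?_
  rintro y ⟨P, φ, x, hφ, rfl⟩
  rw [hD P] at hφ
  obtain ⟨-, hPc, hφc, ψ, hψ, hψ1, hψ2⟩ := hφ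
  have hT := hE.1.2.2.2.1
  refine ⟨mul_mem (inv_mem (hPc x.2)) (hφc x), fun a ha Q n f hf => ?_⟩
  obtain ⟨hQ, hQc, hn, -, L, hper⟩ := hf
  obtain ⟨ai, hai, hal, har⟩ := ha.symm
  have hQT := hQc.1
  set x1 := a x
  set x2 := a (φ x)
  have hx1 : x1 ∈ centralizerIn S T := dom_mem hT ha (hPc x.2)
  have hx2 : x2 ∈ centralizerIn S T := dom_mem hT ha (hφc x)
  set M1 := Q ⊔ Subgroup.zpowers x1
  have hM1W : M1 ≤ Dom S T :=
    sup_le (hQT.trans (le_dom S T)) ((Subgroup.zpowers_le).2 (cen_le_dom S T hx1))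
  have hM1D : M1 ≤ Dom S Q :=
    sup_le (le_dom S Q) ((Subgroup.zpowers_le).2 (cen_le_dom_of_le hQT hx1))
  have hψm := isMap_toFn hψ
  have haiQ : ∀ q ∈ Q, ai q ∈ T := fun q hq =>
    (stronglyClosed_iff.1 hT).2 _ ai hai.1 q (le_dom S T (hQT hq)) (hQT hq)
  have hx1i : ai x1 = x := hal _ (cen_le_dom S T (hPc x.2))
  have hd : ∀ z ∈ M1, ai z ∈ P ⊔ T := fun z hz =>
    hai.1.forall_mem_sup (le_sup_left.trans hM1W) (le_sup_right.trans hM1W)
      (fun w hw => le_sup_right (a := P) (haiQ w hw))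
      (fun w hw => by
        obtain ⟨j, rfl⟩ := Subgroup.mem_zpowers_iff.1 hw
        obtain ⟨θ, -, e⟩ := id (hai.1.mono hM1W)
        have hx1M : x1 ∈ M1 := le_sup_right (a := Q) (Subgroup.mem_zpowers x1)
        rw [← e _ (le_sup_right (a := Q) hw),
          show (⟨x1 ^ j, le_sup_right (a := Q) hw⟩ : M1) = (⟨x1, hx1M⟩ : M1) ^ j from
            Subtype.ext (by simp), map_zpow, e x1 hx1M, hx1i]
        exact zpow_mem (le_sup_left (b := T) x.2) j) hz
  have hψW : ∀ z ∈ P ⊔ T, toFn ψ z ∈ Dom S T := fun z hz =>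
    hψm.forall_mem_sup le_sup_left le_sup_right
      (fun w hw => by
        rw [toFn_apply ψ (le_sup_left (b := T) hw)]
        exact cen_le_dom S T ((hψ1 ⟨w, hw⟩).symm ▸ hφc ⟨w, hw⟩))
      (fun w hw => by
        rw [toFn_apply ψ (le_sup_right (a := P) hw)]
        exact le_dom S T ((hψ2 ⟨w, hw⟩).symm ▸ hw)) hz
  set k := fun z => a (toFn ψ (ai z)) with hkdef
  have hk : IsMap F M1 k :=
    ((hai.1.mono hM1W).comp hψm hd).comp ha.1 fun z hz => hψW _ (hd z hz)
  have hkQ : ∀ q ∈ Q, k q = q := fun q hq => by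
    show a (toFn ψ (ai q)) = q
    rw [toFn_apply ψ (le_sup_right (a := P) (haiQ q hq))]
    have := hψ2 ⟨ai q, haiQ q hq⟩
    exact (congrArg a this).trans (har q (le_dom S T (hQT hq)))
  have hkx : k x1 = x2 := by
    show a (toFn ψ (ai x1)) = a (φ x)
    rw [hx1i, toFn_apply ψ (le_sup_left (b := T) x.2)]
    exact congrArg a (hψ1 x)
  set M2 := Q ⊔ Subgroup.zpowers x2
  have hx1M : x1 ∈ M1 := le_sup_right (a := Q) (Subgroup.mem_zpowers x1)
  have hkI : IsIso F M1 M2 k := by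
    refine ⟨hk, le_antisymm ?_ (sup_le (fun q hq => ?_) ((Subgroup.zpowers_le).2 ?_))⟩
    · refine hk.img_le le_rfl fun z hz => hk.forall_mem_sup le_sup_left le_sup_right
        (fun w hw => le_sup_left (b := Subgroup.zpowers x2) ((hkQ w hw).symm ▸ hw))
        (fun w hw => ?_) hz
      obtain ⟨j, rfl⟩ := Subgroup.mem_zpowers_iff.1 hw
      obtain ⟨θ, -, e⟩ := id hk
      rw [← e _ (le_sup_right (a := Q) hw),
        show (⟨x1 ^ j, le_sup_right (a := Q) hw⟩ : M1) = (⟨x1, hx1M⟩ : M1) ^ j from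
          Subtype.ext (by simp), map_zpow, e x1 hx1M, hkx]
      exact le_sup_right (a := Q) (zpow_mem (Subgroup.mem_zpowers x2) j)
    · exact hkQ q hq ▸ hk.mem_img (le_sup_left (b := Subgroup.zpowers x1) hq)
    · exact hkx ▸ hk.mem_img hx1M
  obtain ⟨ki, hki, hkl, hkr⟩ := hkI.symm
  have hfM1 : ∀ z ∈ M1, f z ∈ M1 := fun z hz =>
    mem_of_mod le_sup_left (fun w hw => L.modP w (hM1D hw)) hz
  set t := x1⁻¹ * f x1 with htdef
  have htQ : t ∈ Q := L.modP x1 (hM1D hx1M)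
  have hfx1 : f x1 = x1 * t := (mul_inv_cancel_left x1 (f x1)).symm
  set β := fun z => k (f (ki z)) with hβdef
  have hβ : IsMap F M2 β :=
    (hki.1.comp (L.map.mono hM1D) fun z hz => hki.mem hz).comp hk fun z hz => hfM1 _ (hki.mem hz)
  have hβQ : ∀ q ∈ Q, β q = f q := fun q hq => by
    show k (f (ki q)) = f q
    have h1 : ki q = q := by
      conv_lhs => rw [← hkQ q hq]
      exact hkl q (le_sup_left (b := Subgroup.zpowers x1) hq)
    rw [h1, hkQ _ (L.mem_P hq)]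
  have hβx : β x2 = x2 * t := by
    show k (f (ki x2)) = _
    rw [← hkx, hkl x1 hx1M, hfx1,
      hk.map_mul hx1M (le_sup_left (b := Subgroup.zpowers x1) htQ), hkQ t htQ]
  have hβit : ∀ j, ∀ z ∈ M1, β^[j] (k z) = k (f^[j] z) := by
    intro j
    induction j with
    | zero => exact fun z _ => rfl
    | succ j ih =>
      intro z hz
      rw [Function.iterate_succ_apply', Function.iterate_succ_apply', ih z hz]
      show k (f (ki (k _))) = _
      rw [hkl _ (iterate_mem hfM1 j z hz)]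
  have hβn : β^[n] x2 = x2 := by
    rw [← hkx, hβit n x1 hx1M, hper x1 (hM1D hx1M)]
  have hfx2 := eq_of_lift hS hF hQ L hn hper (cen_mono hQT hx2) hβ hβQ
    (by rw [hβx, inv_mul_cancel_left]; exact htQ) hβn
  rw [hβx] at hfx2
  have e : a ((x : Ω)⁻¹ * φ x) = x1⁻¹ * x2 := by
    rw [ha.1.map_mul (inv_mem (cen_le_dom S T (hPc x.2))) (cen_le_dom S T (hφc x)),
      ha.1.map_inv (cen_le_dom S T (hPc x.2))]
  rw [e, L.map.map_mul (inv_mem (hM1D hx1M)) (cen_le_dom_of_le hQT hx2), L.map.map_inv (hM1D hx1M),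
    hfx1, hfx2]
  have hcomm := (mem_centralizerIn.1 (mul_mem (inv_mem hx1) hx2)).2 t (hQT htQ)
  calc (x1 * t)⁻¹ * (x2 * t) = t⁻¹ * (x1⁻¹ * x2 * t) := by group
    _ = t⁻¹ * (t * (x1⁻¹ * x2)) := by rw [hcomm]
    _ = x1⁻¹ * x2 := by group

end Cfsg.Agent.FusionNormalCent
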