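import Cfsg.Agent.Lib.FusionNormalCent.Unique
import Cfsg.Agent.Lib.Fusion.Centric
import Cfsg.Agent.Lib.FusionChain.Alperin

/-
For a normal subsystem `E` over `T` of a saturated `F` and an `E`-centric `P ≤ T`, every automorphism
in `Aut_E(P)` extends to `P C_S(P)` acting trivially modulo `P`.
Main results: `mod_of_gen`, `mod_of_fix`, `cen_le_of_conj`, `centric_of_fullyNormalized`,
`fullyNormalized_sub`, `exists_lift`, `exists_periodic_lift`.
-/

set_option autoImplicit false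

namespace Cfsg.Agent.FusionNormalCent

open Cfsg Cfsg.FusionSystem Cfsg.Agent.Fusion

variable {Ω : Type*} [Group Ω] {S T : Subgroup Ω} {F : FusionSystem S} {E : FusionSystem T} {p : ℕ}

/-- Triviality modulo a normalized subgroup can be checked on generators. -/
theorem mod_of_gen {A B V : Subgroup Ω} {f : Ω → Ω} (hf : IsMap F (A ⊔ B) f)
    (hN : A ⊔ B ≤ normalizerIn S V) (hA : ∀ x ∈ A, x⁻¹ * f x ∈ V) (hB : ∀ x ∈ B, x⁻¹ * f x ∈ V) :
    ∀ x ∈ A ⊔ B, x⁻¹ * f x ∈ V := by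
  let C : Subgroup Ω :=
    { carrier := {x | x ∈ A ⊔ B ∧ x⁻¹ * f x ∈ V}
      one_mem' := ⟨one_mem _, by simp [hf.map_one]⟩
      mul_mem' := by
        rintro x y ⟨hx, hx'⟩ ⟨hy, hy'⟩
        refine ⟨mul_mem hx hy, ?_⟩
        rw [hf.map_mul hx hy,
          show (x * y)⁻¹ * (f x * f y) = y⁻¹ * (x⁻¹ * f x) * y * (y⁻¹ * f y) by group]
        exact mul_mem (normalizerIn_conj_inv (hN hy) hx') hy'
      inv_mem' := by
        rintro x ⟨hx, hx'⟩
        refine ⟨inv_mem hx, ?_⟩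
        rw [hf.map_inv hx, show x⁻¹⁻¹ * (f x)⁻¹ = x * (x⁻¹ * f x)⁻¹ * x⁻¹ by group]
        exact normalizerIn_conj (hN hx) (inv_mem hx') }
  have hle : A ⊔ B ≤ C :=
    sup_le (fun x hx => ⟨le_sup_left (b := B) hx, hA x hx⟩)
      fun x hx => ⟨le_sup_right (a := A) hx, hB x hx⟩
  exact fun x hx => (hle hx).2

/-- A map fixing `P` moves elements normalizing `P` by elements centralizing `P`. -/
theorem mod_of_fix {P Q : Subgroup Ω} {g : Ω → Ω} (hg : IsMap F Q g) (hPQ : P ≤ Q)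
    (hQT : Q ≤ T) (hQN : Q ≤ normalizerIn S P) (hcT : centralizerIn T P ≤ P)
    (hgQ : ∀ x ∈ Q, g x ∈ Q) (hfix : ∀ x ∈ P, g x = x) : ∀ q ∈ Q, q⁻¹ * g q ∈ P := by
  intro q hq
  refine hcT (mem_centralizerIn_of_conj (hQT (mul_mem (inv_mem hq) (hgQ q hq))) fun x hx => ?_)
  have h1 : q * x * q⁻¹ ∈ P := normalizerIn_conj (hQN hq) hx
  have h2 := hg.map_conj hq (hPQ hx)
  rw [hfix x hx, hfix _ h1] at h2
  calc q⁻¹ * g q * x * (q⁻¹ * g q)⁻¹ = q⁻¹ * (g q * x * (g q)⁻¹) * q := by group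
    _ = q⁻¹ * (q * x * q⁻¹) * q := by rw [← h2]
    _ = x := by group

/-- Every `F`-conjugate of an `E`-centric subgroup contains its centralizer in `T`. -/
theorem cen_le_of_conj (hE : E.IsInvariantIn F) {P P' : Subgroup Ω} (hP : E.IsCentric P)
    (h : F.IsConj P P') : P' ≤ T ∧ centralizerIn T P' ≤ P' := by
  obtain ⟨f, hf⟩ := isConj_iff.1 h
  obtain ⟨α, hα, f₀, hf₀, he⟩ := FusionNormal.frattini_map hE hP.1 hf.1
  have hTS : T ≤ S := hE.2.1.1
  have haI := isIso_autFn hTS hα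
  obtain ⟨ai, hai, hal, har⟩ := haI.symm
  have hP'T : P' ≤ T := fun z hz => by
    obtain ⟨x, hx, rfl⟩ := hf.exists_eq hz
    rw [he x hx]
    exact haI.mem (hf₀.mem hx)
  refine ⟨hP'T, fun z hz => ?_⟩
  have hzT : z ∈ T := hz.1
  have hw : ai z ∈ centralizerIn T (img f₀ P) := by
    refine mem_centralizerIn_of_conj (hai.mem hzT) fun y hy => ?_
    obtain ⟨x, hx, rfl⟩ := (hf₀.mem_img_iff le_rfl).1 hy
    have hfT : f x ∈ T := hP'T (hf.mem hx)
    have e : f₀ x = ai (f x) := by rw [he x hx, hal _ (hf₀.mem hx)]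
    rw [e, ← hai.1.map_conj hzT hfT, centralizerIn_conj hz (hf.mem hx)]
  obtain ⟨x, hx, hxe⟩ := (hf₀.mem_img_iff le_rfl).1
    (hP.2 _ (isConj_iff.2 ⟨f₀, hf₀.isIso⟩) hw)
  have : z = f x := by rw [he x hx, hxe, har z hzT]
  exact this ▸ hf.mem hx

theorem centric_of_conj (hE : E.IsInvariantIn F) {P P' : Subgroup Ω} (hP : E.IsCentric P)
    (h : F.IsConj P P') : E.IsCentric P' := by
  refine ⟨(cen_le_of_conj hE hP h).1, fun Q hQ => (cen_le_of_conj hE hP (isConj_trans h ?_)).2⟩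
  obtain ⟨g, hg⟩ := isConj_iff.1 hQ
  exact isConj_iff.2 ⟨g, FusionNormal.isIso_of_sub hE.1 hg⟩

theorem centric_of_fullyNormalized [Finite S] [Fact p.Prime] (hS : IsPGroup p S)
    (hF : F.IsSaturated p) (hE : E.IsInvariantIn F) {P : Subgroup Ω} (hPT : P ≤ T)
    (hP : F.IsFullyNormalized P) (hc : centralizerIn T P ≤ P) : E.IsCentric P := by
  refine ⟨hPT, fun Q hQ => ?_⟩
  obtain ⟨g, hg⟩ := isConj_iff.1 hQ
  have hg' := FusionNormal.isIso_of_sub hE.1 hg
  obtain ⟨h, hh, hhQ, -⟩ := exists_normalizer_map hS (fullyAutomized_of_fullyNormalized hS hF hP)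
    (receptive_of_fullyNormalized hS hF hP)
    (isConj_symm (isConj_iff.2 ⟨g, hg'⟩) : F.IsConj Q P)
  intro z hz
  have hzN : z ∈ normalizerIn S Q :=
    centralizerIn_le_normalizerIn S Q ⟨hE.2.1.1 hz.1, hz.2⟩
  have hhz : h z ∈ centralizerIn T P :=
    ⟨(stronglyClosed_iff.1 hE.2.1).2 _ h hh z hzN hz.1,
      (map_centralizerIn hh (le_normalizerIn hg'.le_right) hhQ hzN ⟨hE.2.1.1 hz.1, hz.2⟩).2⟩
  obtain ⟨q, hq, hqe⟩ := (hh.mem_img_iff (le_normalizerIn hg'.le_right)).1 (hhQ.symm ▸ hc hhz)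
  rwa [← hh.inj (le_normalizerIn hg'.le_right hq) hzN hqe]

theorem fullyNormalized_sub [Finite S] [Fact p.Prime] (hS : IsPGroup p S)
    (hF : F.IsSaturated p) (hE : E.IsInvariantIn F) {P : Subgroup Ω} (hPT : P ≤ T)
    (hP : F.IsFullyNormalized P) : E.IsFullyNormalized P := by
  refine ⟨hPT, fun Q hQ => ?_⟩
  obtain ⟨g, hg⟩ := isConj_iff.1 hQ
  have hg' := FusionNormal.isIso_of_sub hE.1 hg
  obtain ⟨h, hh, -, hhN⟩ := exists_normalizer_map hS (fullyAutomized_of_fullyNormalized hS hF hP)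
    (receptive_of_fullyNormalized hS hF hP)
    (isConj_symm (isConj_iff.2 ⟨g, hg'⟩) : F.IsConj Q P)
  have hle : normalizerIn T Q ≤ normalizerIn S Q := inf_le_inf_right _ hE.2.1.1
  rw [← hh.card_img hle]
  have := finite_of_le (S := S) (P := normalizerIn T P) (inf_le_left.trans hE.2.1.1)
  exact Subgroup.card_le_of_le (hh.img_le hle fun x hx =>
    ⟨(stronglyClosed_iff.1 hE.2.1).2 _ h hh x (hle hx) hx.1, (hhN x (hle hx)).2⟩)

/-- An element of `Aut_E(Q)`, `Q` normalizing `P`, fixing the centric `P` is conjugation by an element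
of `C_T(P)`. -/
theorem exists_inner_of_fix_sub [Finite T] [Fact p.Prime] (hT : IsPGroup p T)
    (hEs : E.IsSaturated p) {P Q : Subgroup Ω} (hP : E.IsFullyNormalized P) (hPQ : P ≤ Q)
    (hQN : Q ≤ normalizerIn T P) (hc : centralizerIn T P ≤ P) {η : MulAut Q}
    (hη : η ∈ E.autGroup Q) (hfix : ∀ x ∈ P, autFn η x = x) :
    ∃ z ∈ centralizerIn T P, ∀ q ∈ Q, autFn η q = z * q * z⁻¹ := by
  have hQT : Q ≤ T := hQN.trans inf_le_left
  let K : Subgroup (MulAut Q) :=
    { carrier := {κ | ∀ x : Q, (x : Ω) ∈ P → κ x = x}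
      one_mem' := fun x _ => rfl
      mul_mem' := fun {a b} ha hb x hx => by rw [MulAut.mul_apply, hb x hx, ha x hx]
      inv_mem' := fun {a} ha x hx => by
        have h := congrArg (a⁻¹ : MulAut Q) (ha x hx)
        rw [MulAut.inv_apply_self] at h
        exact h.symm }
  have hfK : IsFullyK E Q K := by
    refine ⟨hQT, fun R f hf => ?_⟩
    have h1 : centralizerIn T P ≤ NK T Q K := fun z hz => by
      refine mem_NK.2 ⟨hz.1, normConj T Q ⟨z, le_normalizerIn hQT (hPQ (hc hz))⟩,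
        fun x hx => Subtype.ext (centralizerIn_conj hz hx), fun x => rfl⟩
    have h2 : NK T R (transK hf K) ≤ centralizerIn T (img f P) := by
      intro s hs
      obtain ⟨hsS, β, hβ, e'⟩ := mem_NK.1 hs
      obtain ⟨α, hα, e''⟩ := mem_transK.1 hβ
      refine mem_centralizerIn_of_conj hsS fun w hw => ?_
      obtain ⟨x, hx, rfl⟩ := (hf.1.mem_img_iff hPQ).1 hw
      have h3 := e'' ⟨x, hPQ hx⟩
      rw [hα ⟨x, hPQ hx⟩ hx, e'] at h3
      exact h3
    have := finite_of_le (S := T) (P := centralizerIn T (img f P)) inf_le_left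
    have := finite_of_le (S := T) (P := NK T Q K) (NK_le T Q K)
    exact (Subgroup.card_le_of_le h2).trans
      (((fullyCentralized_of_fullyNormalized hT hEs hP).2 _
        (isConj_iff.2 ⟨f, hf.mono hPQ⟩)).trans (Subgroup.card_le_of_le h1))
  obtain ⟨-, hSyl⟩ := fullyK_spec hT hEs hfK
  have hAp : IsPGroup p (E.autGroup Q ⊓ K : Subgroup (MulAut Q)) := by
    refine isPGroup_fixing (F := E) hT hPQ hQT inf_le_left
      (fun κ hκ x hx => ?_) fun κ hκ => ?_
    · rw [autFn_apply κ (hPQ hx), hκ.2 ⟨x, hPQ hx⟩ hx]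
    · refine mod_of_fix (F := E) ((mem_autGroup_iff hQT).1 hκ.1) hPQ hQT hQN hc
        (fun x hx => autFn_mem κ hx) fun x hx => ?_
      rw [autFn_apply κ (hPQ hx), hκ.2 ⟨x, hPQ hx⟩ hx]
  have hmem : η ∈ autInducedBy T Q ⊓ K := by
    rw [← hSyl.2.2 _ hSyl.le le_rfl hAp]
    refine ⟨hη, fun x hx => Subtype.ext ?_⟩
    rw [← autFn_apply η x.2]
    exact hfix x hx
  obtain ⟨z, hz, hze⟩ := mem_autInducedBy_iff.1 hmem.1
  refine ⟨z, mem_centralizerIn_of_conj hz fun x hx => ?_, fun q hq => ?_⟩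
  · rw [← hze ⟨x, hPQ hx⟩, hmem.2 ⟨x, hPQ hx⟩ hx]
  · rw [autFn_apply η hq, hze]

/-- The extension step: a periodic lift at `Q = N_T(P)` gives a lift at the fully normalized `P`. -/
theorem exists_lift_step [Finite S] [Fact p.Prime] (hS : IsPGroup p S) (hF : F.IsSaturated p)
    (hEs : E.IsSaturated p) (hE : E.IsInvariantIn F) {P Q : Subgroup Ω}
    (hP : F.IsFullyNormalized P) (hQ : Q = normalizerIn T P) (hPT : P ≤ T)
    (hc : centralizerIn T P ≤ P) {ν : MulAut Q} (hν : ν ∈ E.autGroup Q)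
    (hνP : ∀ x ∈ P, autFn ν x ∈ P) {β : Ω → Ω} (L : Lift F Q (autFn ν) β) {n : ℕ}
    (hn : n.Coprime p) (hβn : Periodic n (Dom S Q) β) :
    ∃ f, Lift F P (autFn ν) f := by
  have hTS : T ≤ S := hE.2.1.1
  have := finite_of_le hTS
  have hT : IsPGroup p T := hS.to_le hTS
  have hQT : Q ≤ T := hQ ▸ inf_le_left
  have hPQ : P ≤ Q := hQ ▸ le_normalizerIn hPT
  have hQNT : Q ≤ normalizerIn T P := hQ.le
  have hQNS : Q ≤ normalizerIn S P := hQNT.trans (inf_le_inf_right _ hTS)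
  set D := centralizerIn S P
  set M := Dom S Q
  have hQM : Q ≤ M := le_dom S Q
  have hMS : M ≤ S := L.map.le
  have hPM : P ≤ M := hPQ.trans hQM
  have hDQ : ∀ d ∈ D, ∀ q ∈ Q, d * q * d⁻¹ ∈ Q := by
    intro d hd q hq
    rw [hQ]
    exact ⟨conj_mem_of_stronglyClosed hE.2.1 hd.1 (hQT hq),
      (mul_mem (mul_mem (centralizerIn_le_normalizerIn S P hd) (hQNS hq))
        (inv_mem (centralizerIn_le_normalizerIn S P hd))).2⟩
  have hDNQ : D ≤ normalizerIn S Q := fun d hd => by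
    have := finite_of_le (hQT.trans hTS)
    exact mem_normalizerIn_of_conj hd.1 (hDQ d hd)
  have hMD : M ≤ Q ⊔ D :=
    sup_le le_sup_left (le_trans (fun c hc' => mem_centralizerIn.2
      ⟨hc'.1, fun x hx => (mem_centralizerIn.1 hc').2 x (hPQ hx)⟩) le_sup_right)
  have hNM : normalizerIn S Q ≤ normalizerIn S M := by
    intro s hs
    have := finite_of_le hMS
    refine mem_normalizerIn_of_conj hs.1 fun x hx => ?_
    exact (IsMap.conj (F := F) hMS hs.1).forall_mem_sup (le_dom S Q) (cen_le_dom S Q)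
      (fun w hw => le_dom S Q (normalizerIn_conj hs hw))
      (fun w hw => cen_le_dom S Q (mem_centralizerIn_of_conj
        (mul_mem (mul_mem hs.1 hw.1) (inv_mem hs.1)) fun z hz => by
          have := centralizerIn_conj hw (normalizerIn_conj_inv hs hz)
          calc s * w * s⁻¹ * z * (s * w * s⁻¹)⁻¹ = s * (w * (s⁻¹ * z * s) * w⁻¹) * s⁻¹ := by group
            _ = s * (s⁻¹ * z * s) * s⁻¹ := by rw [this]
            _ = z := by group)) hx
  have hQDN : Q ⊔ D ≤ normalizerIn S Q := sup_le (le_normalizerIn (hQT.trans hTS)) hDNQ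
  let K : Subgroup (MulAut M) :=
    { carrier := {κ | ∃ t ∈ Q, ∀ x : M, (x : Ω) ∈ P → ((κ x : M) : Ω) = t * x * t⁻¹}
      one_mem' := ⟨1, one_mem _, fun x _ => by simp⟩
      mul_mem' := by
        rintro a b ⟨t, ht, hta⟩ ⟨u, hu, hub⟩
        refine ⟨t * u, mul_mem ht hu, fun x hx => ?_⟩
        have h1 : ((b x : M) : Ω) ∈ P := by
          rw [hub x hx]
          exact normalizerIn_conj (hQNS hu) hx
        rw [MulAut.mul_apply, hta _ h1, hub x hx]
        group
      inv_mem' := by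
        rintro a ⟨t, ht, hta⟩
        refine ⟨t⁻¹, inv_mem ht, fun x hx => ?_⟩
        have h1 : t⁻¹ * (x : Ω) * t ∈ P := normalizerIn_conj_inv (hQNS ht) hx
        have h2 : a ⟨_, hPM h1⟩ = x := Subtype.ext (by rw [hta _ h1]; group)
        rw [← h2, MulAut.inv_apply_self]
        rw [h2]
        group }
  have hN : NK S M K = Q ⊔ D := by
    refine le_antisymm (fun s hs => ?_) (fun s hs => ?_)
    · obtain ⟨hsS, α, ⟨t, ht, hta⟩, e⟩ := mem_NK.1 hs
      have h1 : t⁻¹ * s ∈ D := mem_centralizerIn_of_conj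
        (mul_mem (inv_mem (hTS (hQT ht))) hsS) fun x hx => by
          have h2 := (e ⟨x, hPM hx⟩).symm.trans (hta ⟨x, hPM hx⟩ hx)
          calc t⁻¹ * s * x * (t⁻¹ * s)⁻¹ = t⁻¹ * (s * x * s⁻¹) * t := by group
            _ = t⁻¹ * (t * x * t⁻¹) * t := by rw [h2]
            _ = x := by group
      rw [show s = t * (t⁻¹ * s) from (mul_inv_cancel_left t s).symm]
      exact mul_mem (le_sup_left (b := D) ht) (le_sup_right (a := Q) h1)
    · refine (sup_le (fun q hq => ?_) (fun d hd => ?_) : Q ⊔ D ≤ NK S M K) hs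
      · exact mem_NK.2 ⟨hTS (hQT hq),
          normConj S M ⟨q, hNM (le_normalizerIn (hQT.trans hTS) hq)⟩,
          ⟨q, hq, fun x _ => rfl⟩, fun x => rfl⟩
      · exact mem_NK.2 ⟨hd.1, normConj S M ⟨d, hNM (hDNQ hd)⟩,
          ⟨1, one_mem _, fun x hx => by simpa using centralizerIn_conj hd hx⟩, fun x => rfl⟩
  have hNP : NK S P (autInducedBy T P) ≤ Q ⊔ D := by
    intro s hs
    obtain ⟨hsS, α, hα, e⟩ := mem_NK.1 hs
    obtain ⟨t, ht, hte⟩ := mem_autInducedBy_iff.1 hα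
    have htQ : t ∈ Q := hQ ▸ mem_normalizerIn_of_aut ht hte
    have h1 : t⁻¹ * s ∈ D := mem_centralizerIn_of_conj (mul_mem (inv_mem (hTS ht)) hsS) fun x hx => by
      have h2 := (e ⟨x, hx⟩).symm.trans (hte ⟨x, hx⟩)
      calc t⁻¹ * s * x * (t⁻¹ * s)⁻¹ = t⁻¹ * (s * x * s⁻¹) * t := by group
        _ = t⁻¹ * (t * x * t⁻¹) * t := by rw [h2]
        _ = x := by group
    rw [show s = t * (t⁻¹ * s) from (mul_inv_cancel_left t s).symm]
    exact mul_mem (le_sup_left (b := D) htQ) (le_sup_right (a := Q) h1)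
  have hfK : IsFullyK F M K := by
    refine ⟨hMS, fun R f hf => ?_⟩
    rw [hN]
    set P' := img f P
    have hP'S : P' ≤ S := hf.1.img_le hPM fun x hx => hf.1.mem (hPM hx)
    obtain ⟨h, hh, hhP, -⟩ := exists_normalizer_map hS (fullyAutomized_of_fullyNormalized hS hF hP)
      (receptive_of_fullyNormalized hS hF hP)
      (isConj_symm (isConj_iff.2 ⟨f, hf.mono hPM⟩) : F.IsConj P' P)
    have hh0 : IsIso F P' P h := ⟨hh.mono (le_normalizerIn hP'S), hhP⟩
    obtain ⟨a, -, hae⟩ := exists_aut_of_isIso ((hf.mono hPM).trans hh0)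
    set K2 := (autInducedBy T P).map (MulAut.conj a).toMonoidHom
    have hmemN : ∀ s ∈ NK S R (transK hf K), s ∈ normalizerIn S P' ∧ h s ∈ NK S P K2 := by
      intro s hs
      obtain ⟨hsS, γ, hγ, e'⟩ := mem_NK.1 hs
      obtain ⟨α, ⟨t, ht, hta⟩, e''⟩ := mem_transK.1 hγ
      have hact : ∀ x ∈ P, s * f x * s⁻¹ = f (t * x * t⁻¹) := fun x hx => by
        have h1 := e'' ⟨x, hPM hx⟩
        rw [e', hta ⟨x, hPM hx⟩ hx] at h1
        exact h1
      have := finite_of_le hP'S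
      have hsN : s ∈ normalizerIn S P' := mem_normalizerIn_of_conj hsS fun w hw => by
        obtain ⟨x, hx, rfl⟩ := (hf.1.mem_img_iff hPM).1 hw
        rw [hact x hx]
        exact hf.1.mem_img (normalizerIn_conj (hQNS ht) hx)
      refine ⟨hsN, mem_NK.2 ⟨hh.mem hsN,
        _, ⟨normConj T P ⟨t, hQNT ht⟩, range_normConj T P ▸ ⟨_, rfl⟩, rfl⟩, fun y => ?_⟩⟩
      obtain ⟨x, rfl⟩ := a.surjective y
      show ((a (normConj T P ⟨t, hQNT ht⟩ (a⁻¹ (a x))) : P) : Ω) = _
      rw [MulAut.inv_apply_self, hae, hae]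
      show h (f (t * (x : Ω) * t⁻¹)) = _
      rw [← hact x x.2, hh.map_conj hsN (le_normalizerIn hP'S (hf.1.mem_img x.2))]
    have hle : NK S R (transK hf K) ≤ normalizerIn S P' := fun s hs => (hmemN s hs).1
    rw [← hh.card_img hle]
    have hfin := finite_of_le (S := S) (P := NK S P K2) (NK_le _ _ _)
    refine (Subgroup.card_le_of_le (hh.img_le hle fun s hs => (hmemN s hs).2)).trans ?_
    have := finite_of_le (S := S) (P := Q ⊔ D) (hQDN.trans inf_le_left)
    refine le_trans ?_ (Subgroup.card_le_of_le hNP)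
    have := finite_mulAut (S := S) hP.1
    rw [card_NK, card_NK, inf_eq_right.2 (autInducedBy_le_of_le hTS)]
    refine Nat.mul_le_mul_left _ ?_
    have hinj : Function.Injective (MulAut.conj a).toMonoidHom := (MulAut.conj a).injective
    rw [← Subgroup.card_map_of_injective (K := autInducedBy T P) hinj]
    exact Subgroup.card_le_of_le inf_le_right
  obtain ⟨hMrec, hSyl⟩ := fullyK_spec hS hF hfK
  have hkey : ∀ g : Ω → Ω, IsMap F M g → (∀ x ∈ P, g x = x) → (∀ x ∈ M, x⁻¹ * g x ∈ Q) →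
      Periodic (Nat.card S * Nat.card S) M g := by
    intro g hg hgP hgQ
    have hgQQ : ∀ x ∈ Q, g x ∈ Q := fun x hx => by
      rw [show g x = x * (x⁻¹ * g x) from (mul_inv_cancel_left x (g x)).symm]
      exact mul_mem hx (hgQ x (hQM hx))
    exact periodic_mul hg hQM hgQ
      (periodic_of_fix (hg.mono hQM) hPQ hgP
        (mod_of_fix (hg.mono hQM) hPQ hQT hQNS hc hgQQ hgP))
  -- the stabilizer of the chain `P ≤ Q ≤ M`
  let U : Subgroup (MulAut M) :=
    { carrier := {κ | κ ∈ F.autGroup M ∧ (∀ x ∈ P, autFn κ x = x) ∧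
        ∀ x : M, (x : Ω)⁻¹ * (κ x : M) ∈ Q}
      one_mem' := ⟨one_mem _, fun x hx => by rw [autFn_apply _ (hPM hx)]; rfl, fun x => by simp⟩
      mul_mem' := fun {a b} ha hb => ⟨mul_mem ha.1 hb.1, fun x hx => by
          have e1 := autFn_apply b (hPM hx)
          rw [hb.2.1 x hx] at e1
          rw [autFn_apply _ (hPM hx), MulAut.mul_apply,
            show b ⟨x, hPM hx⟩ = ⟨x, hPM hx⟩ from Subtype.ext e1.symm, ← autFn_apply a (hPM hx),
            ha.2.1 x hx],
        fun x => by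
          rw [MulAut.mul_apply, show (x : Ω)⁻¹ * (a (b x) : M) =
            ((x : Ω)⁻¹ * (b x : M)) * ((b x : M) : Ω)⁻¹ * (a (b x) : M) by group, mul_assoc]
          exact mul_mem (hb.2.2 x) (ha.2.2 (b x))⟩
      inv_mem' := fun {a} ha => ⟨inv_mem ha.1, fun x hx => by
          have e1 := autFn_apply a (hPM hx)
          rw [ha.2.1 x hx] at e1
          rw [autFn_apply _ (hPM hx),
            show (⟨x, hPM hx⟩ : M) = a ⟨x, hPM hx⟩ from Subtype.ext e1, MulAut.inv_apply_self],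
        fun x => by
          have h := inv_mem (ha.2.2 (a⁻¹ x))
          rw [MulAut.apply_inv_self, mul_inv_rev, inv_inv] at h
          exact h⟩ }
  have hUp : IsPGroup p U := by
    obtain ⟨e, he⟩ := IsPGroup.iff_card.1 hS
    intro κ
    refine ⟨e + e, Subtype.ext (MulEquiv.ext fun x => Subtype.ext ?_)⟩
    rw [SubgroupClass.coe_pow, ← autFn_apply ((κ : MulAut M) ^ p ^ (e + e)) x.2, autFn_pow _ _ x.2,
      pow_add, ← he]
    exact hkey _ ((mem_autGroup_iff hMS).1 κ.2.1) κ.2.2.1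
      (fun y hy => by rw [autFn_apply _ hy]; exact κ.2.2.2 ⟨y, hy⟩) x x.2
  have hUB : U ≤ autInducedBy S M ⊓ K := by
    refine le_of_normalized hSyl (fun κ hκ => ⟨hκ.1, 1, one_mem _, fun x hx => ?_⟩) hUp
      fun b hb κ hκ => ?_
    · rw [← autFn_apply κ x.2, hκ.2.1 x hx]
      simp
    obtain ⟨s, hs, hse⟩ := mem_autInducedBy_iff.1 hb.1
    have hsN : s ∈ NK S M K := mem_NK.2 ⟨hs, b, hb.2, hse⟩
    rw [hN] at hsN
    have hsP : s ∈ normalizerIn S P :=
      (sup_le hQNS (centralizerIn_le_normalizerIn S P) : Q ⊔ D ≤ normalizerIn S P) hsN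
    have hbi : ∀ x : M, ((b⁻¹ x : M) : Ω) = s⁻¹ * x * s := fun x => by
      have h1 := hse (b⁻¹ x)
      rw [MulAut.apply_inv_self] at h1
      rw [h1]
      group
    refine ⟨mul_mem (mul_mem (autInducedBy_le_autGroup F le_rfl hMS hb.1) hκ.1)
      (inv_mem (autInducedBy_le_autGroup F le_rfl hMS hb.1)), fun x hx => ?_, fun x => ?_⟩
    · rw [autFn_apply _ (hPM hx), MulAut.mul_apply, MulAut.mul_apply, hse]
      have h1 : ((b⁻¹ ⟨x, hPM hx⟩ : M) : Ω) ∈ P := by
        rw [hbi]; exact normalizerIn_conj_inv hsP hx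
      rw [← autFn_apply κ (b⁻¹ (⟨x, hPM hx⟩ : M)).2, hκ.2.1 _ h1, hbi]
      group
    · rw [MulAut.mul_apply, MulAut.mul_apply, hse]
      have h1 := normalizerIn_conj (hQDN hsN) (hκ.2.2 (b⁻¹ x))
      rw [hbi] at h1
      rw [show (x : Ω)⁻¹ * (s * ((κ (b⁻¹ x) : M) : Ω) * s⁻¹) =
        s * ((s⁻¹ * x * s)⁻¹ * ((κ (b⁻¹ x) : M) : Ω)) * s⁻¹ by group]
      exact h1
  -- `β` as an automorphism of `M`
  have hβI : IsIso F M M β :=
    ⟨L.map, eq_of_le_of_card hMS (L.map.img_le le_rfl fun x hx => L.mem hx) (L.map.card_img le_rfl).ge⟩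
  obtain ⟨b, hb, hbe⟩ := exists_aut_of_isIso hβI
  obtain ⟨f, hf, hfe⟩ := FusionChain.exists_extension (M := D) hMrec hb (hDNQ.trans hNM)
    fun d hd => by
    set c := normConj S M ⟨d, hNM (hDNQ hd)⟩ with hcdef
    have hc0 : c ∈ autInducedBy S M := range_normConj S M ▸ ⟨_, rfl⟩
    suffices hδ : b * c * b⁻¹ * c⁻¹ ∈ U by
      have := mul_mem (hUB hδ).1 hc0
      rwa [inv_mul_cancel_right] at this
    have hcF : c ∈ F.autGroup M := autInducedBy_le_autGroup F le_rfl hMS hc0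
    have hce : ∀ x : M, ((c x : M) : Ω) = d * x * d⁻¹ := fun x => rfl
    have hci : ∀ x : M, ((c⁻¹ x : M) : Ω) = d⁻¹ * x * d := fun x => by
      have h1 := hce (c⁻¹ x)
      rw [MulAut.apply_inv_self] at h1
      rw [h1]
      group
    refine ⟨mul_mem (mul_mem (mul_mem hb hcF) (inv_mem hb)) (inv_mem hcF), fun x hx => ?_,
      fun x => ?_⟩
    · rw [autFn_apply _ (hPM hx)]
      show ((b (c (b⁻¹ (c⁻¹ ⟨x, hPM hx⟩))) : M) : Ω) = x
      have h1 : c⁻¹ (⟨x, hPM hx⟩ : M) = ⟨x, hPM hx⟩ := Subtype.ext <| (hci _).trans <| by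
        have := centralizerIn_conj (inv_mem hd) hx
        rwa [inv_inv] at this
      rw [h1]
      set w := b⁻¹ (⟨x, hPM hx⟩ : M) with hwdef
      have hbw : b w = ⟨x, hPM hx⟩ := by rw [hwdef, MulAut.apply_inv_self]
      have hwP : (w : Ω) ∈ P := by
        have hPfin := finite_of_le hP.1
        have hs : Function.Surjective fun z : P => (⟨autFn ν z, hνP z z.2⟩ : P) :=
          Finite.surjective_of_injective fun z z' e => Subtype.ext <|
            ((mem_autGroup_iff hQT).1 hν).inj (hPQ z.2) (hPQ z'.2) (congrArg Subtype.val e)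
        obtain ⟨z, hz⟩ := hs ⟨x, hx⟩
        have hz' : autFn ν (z : Ω) = x := congrArg Subtype.val hz
        have : β (w : Ω) = β (z : Ω) := by
          rw [← hbe w, hbw, L.eq _ (hPQ z.2), hz']
        rw [L.map.inj w.2 (hPM z.2) this]
        exact z.2
      have h2 : c w = w := Subtype.ext (centralizerIn_conj hd hwP)
      rw [h2, hbw]
    · show (x : Ω)⁻¹ * ((b (c (b⁻¹ (c⁻¹ x))) : M) : Ω) ∈ Q
      set z := c⁻¹ x with hz
      set w := b⁻¹ z with hw
      have hzw : (z : Ω) = β w := by rw [← hbe, hw, MulAut.apply_inv_self]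
      have hx' : (x : Ω) = d * z * d⁻¹ := by
        rw [← hce, hz, MulAut.apply_inv_self]
      have h1 := L.modP (w : Ω) w.2
      have h2 := L.modP ((c w : M) : Ω) (c w).2
      rw [hbe, hce] at *
      rw [hx', hzw, show (d * β (w : Ω) * d⁻¹)⁻¹ * β (d * (w : Ω) * d⁻¹) =
        (d * ((w : Ω)⁻¹ * β w) * d⁻¹)⁻¹ * ((d * (w : Ω) * d⁻¹)⁻¹ * β (d * (w : Ω) * d⁻¹)) by group]
      exact mul_mem (inv_mem (hDQ d hd _ h1)) h2
  have hfe' : ∀ x ∈ M, f x = β x := fun x hx => by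
    rw [hfe x hx, autFn_apply b hx, hbe]
  set M2 := M ⊔ D
  have hM2S : M2 ≤ S := hf.le
  have hMM2 : M ≤ M2 := le_sup_left
  have hQM2 : Q ≤ M2 := hQM.trans hMM2
  have hDM2 : D ≤ M2 := le_sup_right
  have hM2N : M2 ≤ normalizerIn S M := sup_le (le_normalizerIn hMS) (hDNQ.trans hNM)
  have hfP : img f P = P := IsIso.img_eq_of hf (hPM.trans hMM2)
    (fun x hx => by rw [hfe' x (hPM hx), L.eq x (hPQ hx)]; exact hνP x hx)
    fun y hy => by
      have hPfin := finite_of_le hP.1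
      have hs : Function.Surjective fun z : P => (⟨autFn ν z, hνP z z.2⟩ : P) :=
        Finite.surjective_of_injective fun z z' e => Subtype.ext <|
          ((mem_autGroup_iff hQT).1 hν).inj (hPQ z.2) (hPQ z'.2) (congrArg Subtype.val e)
      obtain ⟨z, hz⟩ := hs ⟨y, hy⟩
      exact ⟨z, z.2, by
        rw [hfe' _ (hPM z.2), L.eq _ (hPQ z.2)]
        exact congrArg Subtype.val hz⟩
  have hfD : ∀ d ∈ D, d⁻¹ * f d ∈ M := by
    intro d hd
    set s := f d * d⁻¹
    have hfd : f d ∈ D := map_centralizerIn hf (hPM.trans hMM2) hfP (hDM2 hd) hd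
    have hsD : s ∈ D := mul_mem hfd (inv_mem hd)
    have hcd : normConj S Q ⟨d, hDNQ hd⟩ ∈ F.autGroup Q :=
      autInducedBy_le_autGroup F le_rfl (hQT.trans hTS) (range_normConj S Q ▸ ⟨_, rfl⟩)
    set c := normConj S Q ⟨d, hDNQ hd⟩
    have hη : ν * c * ν⁻¹ * c⁻¹ ∈ E.autGroup Q := by
      rw [mul_assoc (ν * c), mul_assoc ν c, ← mul_assoc c]
      exact mul_mem hν (FusionNormal.conj_mem_autGroup hE hQT hcd (inv_mem hν))
    have hval : ∀ q ∈ Q, autFn (ν * c * ν⁻¹ * c⁻¹) q = s * q * s⁻¹ := by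
      intro q hq
      rw [autFn_apply _ hq]
      show ((ν (c (ν⁻¹ (c⁻¹ ⟨q, hq⟩))) : Q) : Ω) = _
      set w := ν⁻¹ (c⁻¹ (⟨q, hq⟩ : Q)) with hwdef
      have hfw : ∀ v : Q, f v = (ν v : Q) := fun v => by
        rw [hfe' _ (hQM v.2), L.eq _ v.2, autFn_apply ν v.2]
      rw [← hfw]
      show f (d * (w : Ω) * d⁻¹) = _
      rw [hf.map_conj (hDM2 hd) (hQM2 w.2), hfw, hwdef, MulAut.apply_inv_self]
      have hci : ((c⁻¹ ⟨q, hq⟩ : Q) : Ω) = d⁻¹ * q * d := by
        obtain ⟨v, hv⟩ := c.surjective (⟨q, hq⟩ : Q)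
        rw [← hv, MulAut.inv_apply_self]
        have h1 : d * (v : Ω) * d⁻¹ = q := congrArg Subtype.val hv
        rw [← h1]
        group
      rw [hci]
      simp only [s]
      group
    obtain ⟨z, hz, hze⟩ := exists_inner_of_fix_sub hT hEs (fullyNormalized_sub hS hF hE hPT hP)
      hPQ hQNT hc hη fun x hx => by
        rw [hval x (hPQ hx)]
        exact centralizerIn_conj hsD hx
    have hzs : z⁻¹ * s ∈ centralizerIn S Q :=
      mem_centralizerIn_of_conj (mul_mem (inv_mem (hTS hz.1)) hsD.1) fun q hq => by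
        have h1 := (hze q hq).symm.trans (hval q hq)
        calc z⁻¹ * s * q * (z⁻¹ * s)⁻¹ = z⁻¹ * (s * q * s⁻¹) * z := by group
          _ = z⁻¹ * (z * q * z⁻¹) * z := by rw [h1]
          _ = q := by group
    have hsM : s ∈ M := by
      rw [show s = z * (z⁻¹ * s) from (mul_inv_cancel_left z s).symm]
      exact mul_mem (hPM (hc hz)) (cen_le_dom S Q hzs)
    have := normalizerIn_conj_inv (hNM (hDNQ hd)) hsM
    rw [show d⁻¹ * f d = d⁻¹ * s * d by simp [s]; group]
    exact this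
  have hfmod : ∀ x ∈ M2, x⁻¹ * f x ∈ M := mod_of_gen hf hM2N
    (fun x hx => by rw [hfe' x hx]; exact mul_mem (inv_mem hx) (L.mem hx)) hfD
  have hper : Periodic (n * Nat.card S * Nat.card S) M2 f := by
    refine periodic_mul hf hMM2 hfmod fun x hx => ?_
    rw [iterate_congr (fun y hy => L.mem hy) hfe' _ x hx, Function.iterate_mul]
    exact periodic_of_fix (isMap_iterate L.map (fun y hy => L.mem hy) n) hQM
      (fun q hq => hβn q (hQM hq)) (iterate_mod hQM L.modP n) x hx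
  obtain ⟨m, hm, hdm⟩ := exists_exponent hS hn 2
  rw [sq] at hdm
  rw [mul_assoc] at hper
  have hfM2 : ∀ y ∈ M2, f y ∈ M2 := fun y hy => mem_of_mod hMM2 hfmod hy
  have hgM : ∀ x ∈ M, f^[m] x = β x := fun x hx => by
    rw [iterate_congr (fun y hy => L.mem hy) hfe' _ x hx, iterate_eq_of_periodic (hβn x hx) hm]
  have hgmap := isMap_iterate hf hfM2 m
  refine ⟨f^[m], Lift.of_centralizer (hgmap.mono (sup_le (hPM.trans hMM2) hDM2))
    (fun x hx => by rw [hgM x (hPM hx), L.eq x (hPQ hx)])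
    (fun x hx => by rw [hgM x (hPM hx), L.eq x (hPQ hx)]; exact hνP x hx) fun d hd => ?_⟩
  have hQmem : ∀ q ∈ Q, f^[m] q ∈ Q := fun q hq => by
    rw [hgM q (hQM hq)]; exact L.mem_P hq
  have h1 : d⁻¹ * f^[m] d ∈ Q :=
    coprime_twist_mem hS hgmap hMM2 hQM hQmem
      (fun v hv => by rw [hgM v hv]; exact L.modP v hv) (hDM2 hd)
      (iterate_mod hMM2 hfmod m d (hDM2 hd)) hn (periodic_iterate hper hdm d (hDM2 hd))
  have hgP : img (f^[m]) P = P := by
    rw [img_congr (fun x hx => (hgM x (hPM hx)).trans (hfe' x (hPM hx)).symm), hfP]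
  have h2 : f^[m] d ∈ D := map_centralizerIn hgmap (hPM.trans hMM2) hgP (hDM2 hd) hd
  exact hc ⟨hQT h1, (mul_mem (inv_mem hd) h2).2⟩

/-- Every element of `Aut_E(P)`, `P` centric in `E`, extends to `P C_S(P)` trivially modulo `P`. -/
theorem exists_lift [Finite S] [Fact p.Prime] (hS : IsPGroup p S) (hF : F.IsSaturated p)
    (hE : E.IsNormalIn F p) {P : Subgroup Ω} (hP : E.IsCentric P) {ψ : MulAut P}
    (hψ : ψ ∈ E.autGroup P) : ∃ f, Lift F P (autFn ψ) f := by
  obtain ⟨⟨hEs, -, hEi⟩, hExt⟩ := hE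
  have hTS : T ≤ S := hEi.2.1.1
  have := finite_of_le hTS
  have hT : IsPGroup p T := hS.to_le hTS
  induction hk : Nat.card T - Nat.card P using Nat.strong_induction_on generalizing P with
  | _ k ih =>
  have hPT := hP.1
  have hPS := hPT.trans hTS
  obtain ⟨R, g, hR, hg, hgP, -⟩ := exists_fullyNormalized_map hS hF hPS
  have hg0 : IsIso F P R g := ⟨hg.mono (le_normalizerIn hPS), hgP⟩
  have hRc : E.IsCentric R := centric_of_conj hEi hP (isConj_iff.2 ⟨g, hg0⟩)
  have hRcard : Nat.card R = Nat.card P := hg0.card_eq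
  suffices hmain : ∀ χ ∈ E.autGroup R, ∃ f, Lift F R (autFn χ) f by
    obtain ⟨f, hf⟩ := hmain _ (FusionNormal.congr_mem_autGroup hEi hg0 hPT hψ)
    have hgD := hg.mono (dom_le_normalizerIn hPS)
    have hgmem : ∀ x ∈ Dom S P, g x ∈ Dom S R := fun x hx =>
      hg.forall_mem_sup (le_normalizerIn hPS) (centralizerIn_le_normalizerIn S P)
        (fun w hw => le_dom S R (hg0.mem hw))
        (fun w hw => cen_le_dom S R (map_centralizerIn hg (le_normalizerIn hPS) hgP
          (centralizerIn_le_normalizerIn S P hw) hw)) hx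
    have hRimg : R ≤ img g (Dom S P) := fun z hz => by
      obtain ⟨x, hx, rfl⟩ := hg0.exists_eq hz
      exact hgD.mem_img (le_dom S P hx)
    have hin : ∀ x ∈ Dom S P, f (g x) ∈ img g (Dom S P) := fun x hx => by
      rw [show f (g x) = g x * ((g x)⁻¹ * f (g x)) from (mul_inv_cancel_left _ _).symm]
      exact mul_mem (hgD.mem_img hx) (hRimg (hf.modP _ (hgmem x hx)))
    obtain ⟨gi, hgi, hgl, hgr⟩ := hgD.isIso.symm
    have hm : IsMap F (Dom S P) fun x => gi (f (g x)) := (hgD.comp hf.map hgmem).comp hgi.1 hin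
    have hval : ∀ x ∈ P, gi (f (g x)) = autFn ψ x := fun x hx => by
      rw [hf.eq _ (hg0.mem hx), autFn_apply _ (hg0.mem hx)]
      have h1 := congr_apply_coe hg0 ψ ⟨x, hx⟩
      rw [show (⟨g x, hg0.mem hx⟩ : R) = hg0.equiv ⟨x, hx⟩ from Subtype.ext (hg0.equiv_apply ⟨x, hx⟩).symm,
        h1, hgl _ (le_dom S P (ψ ⟨x, hx⟩).2), autFn_apply ψ hx]
    refine ⟨_, ⟨hm, hval, fun x hx => ?_⟩⟩
    obtain ⟨x', hx', hx'e⟩ := hg0.exists_eq (hf.modP _ (hgmem x hx))
    have : f (g x) = g (x * x') := by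
      rw [hgD.map_mul hx (le_dom S P hx'), hx'e, mul_inv_cancel_left]
    rw [this, hgl _ (mul_mem hx (le_dom S P hx')), inv_mul_cancel_left]
    exact hx'
  intro χ hχ
  have hRT := hRc.1
  have hRS := hRT.trans hTS
  by_cases hRTeq : R = T
  · obtain rfl : T = R := hRTeq.symm
    obtain ⟨β, hβ, hb1, hb2⟩ := hExt χ hχ
    have hβm := (mem_autGroup_iff (show Dom S T ≤ S from dom_le hTS)).1 hβ
    refine ⟨autFn β, Lift.of_centralizer hβm (fun x hx => ?_) (fun x hx => ?_) fun c hc => ?_⟩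
    · rw [autFn_apply β (le_dom S T hx), autFn_apply χ hx]
      exact hb1 ⟨x, hx⟩
    · rw [autFn_apply β (le_dom S T hx)]
      exact (hb1 ⟨x, hx⟩).symm ▸ (χ ⟨x, hx⟩).2
    · rw [autFn_apply β (cen_le_dom S T hc)]
      exact (hb2 ⟨c, cen_le_dom S T hc⟩ hc).1
  have hlt : R < T := lt_of_le_of_ne hRT hRTeq
  have hcT : centralizerIn T R ≤ R := (cen_le_of_conj hEi hRc (isConj_refl F hRS)).2
  have hRE := fullyNormalized_sub hS hF hEi hRT hR
  have := finite_mulAut (S := T) hRT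
  let I : Subgroup (MulAut R) :=
    { carrier := {a | a ∈ E.autGroup R ∧ ∃ f, Lift F R (autFn a) f}
      one_mem' := ⟨one_mem _, fun x => x, Lift.of_centralizer (IsMap.id (dom_le hRS))
        (fun x hx => by rw [autFn_apply _ hx]; rfl) (fun x hx => hx)
        fun c _ => by simp⟩
      mul_mem' := by
        rintro a b ⟨ha, fa, La⟩ ⟨hb, fb, Lb⟩
        refine ⟨mul_mem ha hb, fun x => fa (fb x), ?_⟩
        have L := Lb.comp La
        refine ⟨L.map, fun x hx => (L.eq x hx).trans ?_, L.modP⟩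
        refine (autFn_apply a (autFn_mem b hx)).trans (Eq.trans ?_ (autFn_apply (a * b) hx).symm)
        exact congrArg (fun y : R => ((a y : R) : Ω)) (Subtype.ext (autFn_apply b hx))
      inv_mem' := by
        rintro a ⟨ha, fa, La⟩
        refine ⟨inv_mem ha, fa^[orderOf a - 1], ?_⟩
        have L := La.iterate (orderOf a - 1)
        refine ⟨L.map, fun x hx => (L.eq x hx).trans ?_, L.modP⟩
        rw [← autFn_pow a _ hx]
        congr 1
        rw [eq_inv_iff_mul_eq_one, ← pow_succ,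
          Nat.sub_add_cancel (orderOf_pos a), pow_orderOf_eq_one] }
  have hIA : I ≤ E.autGroup R := fun a ha => ha.1
  have hIn : ∀ a ∈ F.autGroup R, ∀ b ∈ I, a * b * a⁻¹ ∈ I := by
    rintro a ha b ⟨hb, fb, Lb⟩
    refine ⟨FusionNormal.conj_mem_autGroup hEi hRT ha hb, ?_⟩
    have haI := isIso_autFn hRS ha
    obtain ⟨e, he, hee⟩ := (isReceptive_iff.1 (receptive_of_fullyNormalized hS hF hR)).2 R _ haI
    have heD := he.mono (sup_le (le_Nx haI.1) (centralizerIn_le_Nx S R (autFn a)) : Dom S R ≤ _)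
    have heR : img e R = R := (img_congr hee).trans haI.2
    have hemem : ∀ x ∈ Dom S R, e x ∈ Dom S R := fun x hx =>
      heD.forall_mem_sup (le_dom S R) (cen_le_dom S R)
        (fun w hw => le_dom S R (by rw [hee w hw]; exact autFn_mem a hw))
        (fun w hw => cen_le_dom S R (map_centralizerIn heD (le_dom S R) heR (cen_le_dom S R hw) hw))
        hx
    have heI : IsIso F (Dom S R) (Dom S R) e :=
      ⟨heD, eq_of_le_of_card (dom_le hRS) (heD.img_le le_rfl hemem) (heD.card_img le_rfl).ge⟩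
    obtain ⟨ei, hei, hel, her⟩ := heI.symm
    refine ⟨fun x => e (fb (ei x)),
      (hei.1.comp Lb.map fun x hx => hei.mem hx).comp heD fun x hx => Lb.mem (hei.mem hx),
      fun x hx => ?_, fun x hx => ?_⟩
    · obtain ⟨z, rfl⟩ : ∃ z : R, autFn a z = x :=
        ⟨a⁻¹ ⟨x, hx⟩, by rw [autFn_apply a (a⁻¹ ⟨x, hx⟩).2]; simp⟩
      show e (fb (ei (autFn a z))) = _
      rw [← hee z z.2, hel _ (le_dom S R z.2), hee z z.2, Lb.eq _ z.2, autFn_apply b z.2,
        hee _ (b ⟨z, z.2⟩).2, autFn_apply a (b ⟨(z : Ω), z.2⟩).2, autFn_apply _ hx]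
      have e1 : (⟨autFn a z, hx⟩ : R) = a z := Subtype.ext (autFn_apply a z.2)
      rw [e1, MulAut.mul_apply, MulAut.mul_apply, MulAut.inv_apply_self]
    · have hz := hei.mem hx
      have h1 := Lb.modP (ei x) hz
      show x⁻¹ * e (fb (ei x)) ∈ R
      conv => arg 2; arg 1; arg 1; rw [← her x hx]
      rw [← heD.map_inv hz, ← heD.map_mul (inv_mem hz) (Lb.mem hz), hee _ h1]
      exact autFn_mem a h1
  have hBI : autInducedBy T R ≤ I := by
    intro a ha
    refine ⟨autInducedBy_le_autGroup E le_rfl hRT ha, ?_⟩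
    obtain ⟨t, ht, hte⟩ := mem_autInducedBy_iff.1 ha
    have htS := hTS ht
    have htN : t ∈ normalizerIn S R := mem_normalizerIn_of_aut htS hte
    refine ⟨fun x => t * x * t⁻¹, Lift.of_centralizer (IsMap.conj (dom_le hRS) htS)
      (fun x hx => ((autFn_apply a hx).trans (hte ⟨x, hx⟩)).symm)
      (fun x hx => normalizerIn_conj htN hx) fun c hc => ?_⟩
    have h1 : c⁻¹ * (t * c * t⁻¹) ∈ T := by
      rw [show c⁻¹ * (t * c * t⁻¹) = (c⁻¹ * t * c) * t⁻¹ by group]
      have := conj_mem_of_stronglyClosed hEi.2.1 (inv_mem hc.1) ht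
      rw [inv_inv] at this
      exact mul_mem this (inv_mem ht)
    have h2 : t * c * t⁻¹ ∈ centralizerIn S R :=
      mem_centralizerIn_of_conj (mul_mem (mul_mem htS hc.1) (inv_mem htS)) fun z hz => by
        have := centralizerIn_conj hc (normalizerIn_conj_inv htN hz)
        calc t * c * t⁻¹ * z * (t * c * t⁻¹)⁻¹ = t * (c * (t⁻¹ * z * t) * c⁻¹) * t⁻¹ := by group
          _ = t * (t⁻¹ * z * t) * t⁻¹ := by rw [this]
          _ = z := by group
    exact hcT ⟨h1, (mul_mem (inv_mem hc) h2).2⟩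
  have hSyl : IsSylowIn p (autInducedBy T R) (E.autGroup R) :=
    (isFullyAutomized_iff.1 (fullyAutomized_of_fullyNormalized hT hEs hRE)).2
  have hSylI : IsSylowIn p (autInducedBy T R) I := hSyl.mono hBI hIA
  -- elements normalizing the Sylow subgroup
  let N : Subgroup (MulAut R) :=
    E.autGroup R ⊓ Subgroup.normalizer ((autInducedBy T R : Subgroup (MulAut R)) : Set (MulAut R))
  have hNI : N ≤ I := by
    refine FusionNormal.autGroup_le_of_sylow_pResidual (H := I)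
      (hSyl.mono (le_inf hSyl.le Subgroup.le_normalizer) inf_le_left) hBI fun ν hν hνn => ?_
    refine ⟨hν.1, ?_⟩
    set n := orderOf ν
    obtain ⟨f, hf, hfe⟩ := FusionChain.exists_extension (M := normalizerIn T R)
      (receptive_of_fullyNormalized hT hEs hRE) hν.1 le_rfl fun t ht =>
      (Subgroup.mem_normalizer_iff.1 hν.2 _).1 (range_normConj T R ▸ ⟨_, rfl⟩)
    rw [sup_eq_right.2 (le_normalizerIn hRT)] at hf
    set Q := normalizerIn T R
    have hRQ : R ≤ Q := le_normalizerIn hRT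
    have hfR : img f R = R := (img_congr hfe).trans (autFn_isIso ((mem_autGroup_iff hRT).1 hν.1)).2
    have hfQ : ∀ x ∈ Q, f x ∈ Q := fun x hx => map_normalizerIn hf hRQ hfR hx hx
    have hfix : ∀ x ∈ R, f^[n] x = x := fun x hx => by
      rw [iterate_congr (fun y hy => autFn_mem ν hy) hfe n x hx, ← autFn_pow ν n hx,
        pow_orderOf_eq_one, autFn_apply _ hx]
      rfl
    have hfn := isMap_iterate hf hfQ n
    have hper : Periodic (n * Nat.card T) Q f := fun x hx => by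
      rw [Function.iterate_mul]
      exact periodic_of_fix hfn hRQ hfix
        (mod_of_fix hfn hRQ inf_le_left le_rfl hcT (iterate_mem hfQ n) hfix) x hx
    obtain ⟨m, hm, hdm⟩ := exists_exponent hT hνn 1
    rw [pow_one] at hdm
    have hgmap := isMap_iterate hf hfQ m
    have hgI : IsIso E Q Q f^[m] := ⟨hgmap, eq_of_le_of_card inf_le_left
      (hgmap.img_le le_rfl (iterate_mem hfQ m)) (hgmap.card_img le_rfl).ge⟩
    obtain ⟨ν', hν', hν'e⟩ := exists_aut_of_isIso hgI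
    have hν'R : ∀ x ∈ R, autFn ν' x = autFn ν x := fun x hx => by
      rw [autFn_apply ν' (hRQ hx), hν'e]
      show f^[m] x = _
      rw [iterate_eq_of_periodic (hfix x hx) hm, hfe x hx]
    have hQlt : Nat.card T - Nat.card Q < k := by
      have h1 := lt_normalizerIn hT le_rfl hlt
      have := finite_of_le (S := T) (P := Q) inf_le_left
      have h2 : Nat.card R < Nat.card Q := lt_of_le_of_ne (Subgroup.card_le_of_le hRQ)
        fun e => h1.ne (eq_of_le_of_card inf_le_left hRQ e.ge)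
      have h3 : Nat.card Q ≤ Nat.card T := Subgroup.card_le_of_le inf_le_left
      omega
    obtain ⟨β₀, L₀⟩ := ih _ hQlt (centric_mono hRc hRQ inf_le_left) hν' rfl
    obtain ⟨β, L, hβn⟩ := L₀.periodize hS hνn (n := n) fun x hx => by
      rw [← autFn_pow ν' n hx, autFn_apply _ hx]
      have hper' := periodic_iterate hper hdm x hx
      have hpow : ∀ j, ((ν' ^ j) ⟨x, hx⟩ : Q).1 = (f^[m])^[j] x := by
        intro j
        induction j with
        | zero => rfl
        | succ j ihj =>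
          rw [pow_succ', MulAut.mul_apply, hν'e, ihj, Function.iterate_succ_apply']
      rw [hpow, hper']
    obtain ⟨fl, hfl⟩ := exists_lift_step hS hF hEs hEi hR rfl hRT hcT hν'
      (fun x hx => by rw [hν'R x hx]; exact autFn_mem ν hx) L hνn hβn
    exact ⟨fl, hfl.map, fun x hx => (hfl.eq x hx).trans (hν'R x hx), hfl.modP⟩
  -- Frattini
  have hconjle : (autInducedBy T R).map (MulAut.conj χ).toMonoidHom ≤ I := by
    rintro _ ⟨b, hb, rfl⟩
    exact hIn χ (FusionNormal.autGroup_le_of_sub hEi.1 hRT hχ) b (hBI hb)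
  obtain ⟨a, ha, hac⟩ := hSylI.exists_conj_le (hSylI.isPGroup.map _) hconjle
  have hν : a * χ ∈ N := by
    refine ⟨mul_mem (hIA ha) hχ, Subgroup.mem_normalizer_fintype fun b hb => ?_⟩
    have := hac _ ⟨b, hb, rfl⟩
    simpa [mul_assoc] using this
  have hmem : χ ∈ I := by
    have := mul_mem (inv_mem ha) (hNI hν)
    rwa [inv_mul_cancel_left] at this
  exact hmem.2

/-- The periodic form. -/
theorem exists_periodic_lift [Finite S] [Fact p.Prime] (hS : IsPGroup p S) (hF : F.IsSaturated p)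
    (hE : E.IsNormalIn F p) {P : Subgroup Ω} (hP : E.IsCentric P) {ψ : MulAut P}
    (hψ : ψ ∈ E.autGroup P) (hn : (orderOf ψ).Coprime p) :
    ∃ f, Lift F P (autFn ψ) f ∧ Periodic (orderOf ψ) (Dom S P) f := by
  obtain ⟨f, hf⟩ := exists_lift hS hF hE hP hψ
  exact hf.periodize hS hn fun x hx => by
    rw [← autFn_pow ψ _ hx, pow_orderOf_eq_one, autFn_apply _ hx]
    rfl

end Cfsg.Agent.FusionNormalCent
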