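import Cfsg.Agent.Lib.Fusion.Criterion
import Cfsg.Agent.Lib.Fusion.Normal
import Cfsg.Agent.Lib.FusionNormal.Generation

/-
Iterates of maps of a fusion system, lifts of automorphisms of `P` to `P C_S(P)` trivial modulo `P`,
and periodicity.
Main results: `isMap_iterate`, `iterate_mod`, `iterate_twist`, `coprime_twist_mem`, `exists_periodic`,
`Dom`, `Lift`, `Lift.of_centralizer`, `Lift.periodize`.
-/

set_option autoImplicit false

namespace Cfsg.Agent.FusionNormalCent

open Cfsg Cfsg.FusionSystem Cfsg.Agent.Fusion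

variable {Ω : Type*} [Group Ω] {S : Subgroup Ω} {F : FusionSystem S} {p : ℕ}

/-! ### Iterates -/

/-- `f` has period `n` on `M`. -/
def Periodic (n : ℕ) (M : Subgroup Ω) (f : Ω → Ω) : Prop := ∀ x ∈ M, f^[n] x = x

theorem iterate_mem {M : Subgroup Ω} {f : Ω → Ω} (hM : ∀ x ∈ M, f x ∈ M) (k : ℕ) :
    ∀ x ∈ M, f^[k] x ∈ M := by
  induction k with
  | zero => exact fun x hx => hx
  | succ k ih =>
    intro x hx
    rw [Function.iterate_succ_apply']
    exact hM _ (ih x hx)

theorem isMap_iterate {M : Subgroup Ω} {f : Ω → Ω} (hf : IsMap F M f) (hM : ∀ x ∈ M, f x ∈ M) :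
    ∀ k, IsMap F M f^[k]
  | 0 => IsMap.id hf.le
  | k + 1 => ((isMap_iterate hf hM k).comp hf (iterate_mem hM k)).congr fun x _ =>
      (Function.iterate_succ_apply' f k x).symm

theorem iterate_congr {M : Subgroup Ω} {f g : Ω → Ω} (hM : ∀ x ∈ M, f x ∈ M)
    (h : ∀ x ∈ M, g x = f x) (k : ℕ) : ∀ x ∈ M, g^[k] x = f^[k] x := by
  induction k with
  | zero => exact fun x _ => rfl
  | succ k ih =>
    intro x hx
    rw [Function.iterate_succ_apply', Function.iterate_succ_apply', ih x hx,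
      h _ (iterate_mem hM k x hx)]

theorem mem_of_mod {M V : Subgroup Ω} {f : Ω → Ω} (hV : V ≤ M)
    (h : ∀ x ∈ M, x⁻¹ * f x ∈ V) {x : Ω} (hx : x ∈ M) : f x ∈ M := by
  have e : f x = x * (x⁻¹ * f x) := (mul_inv_cancel_left x (f x)).symm
  rw [e]
  exact mul_mem hx (hV (h x hx))

/-- Trivial modulo `V` is preserved by iteration. -/
theorem iterate_mod {M V : Subgroup Ω} {f : Ω → Ω} (hV : V ≤ M)
    (h : ∀ x ∈ M, x⁻¹ * f x ∈ V) (k : ℕ) : ∀ x ∈ M, x⁻¹ * f^[k] x ∈ V := by
  induction k with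
  | zero => exact fun x _ => by simp
  | succ k ih =>
    intro x hx
    rw [Function.iterate_succ_apply',
      show x⁻¹ * f (f^[k] x) = (x⁻¹ * f^[k] x) * ((f^[k] x)⁻¹ * f (f^[k] x)) by group]
    exact mul_mem (ih x hx) (h _ (iterate_mem (fun y hy => mem_of_mod hV h hy) k x hx))

theorem map_pow {M : Subgroup Ω} {f : Ω → Ω} (hf : IsMap F M f) {u : Ω} (hu : u ∈ M) :
    ∀ k : ℕ, f (u ^ k) = f u ^ k
  | 0 => by rw [pow_zero, pow_zero, hf.map_one]
  | k + 1 => by rw [pow_succ, pow_succ, hf.map_mul (pow_mem hu k) hu, map_pow hf hu k]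

/-- A map moving `x` by a fixed element `u`. -/
theorem iterate_twist {M : Subgroup Ω} {f : Ω → Ω} (hf : IsMap F M f) {x u : Ω} (hx : x ∈ M)
    (hu : u ∈ M) (hxu : f x = x * u) (hfu : f u = u) : ∀ k, f^[k] x = x * u ^ k
  | 0 => by simp
  | k + 1 => by
    rw [Function.iterate_succ_apply', iterate_twist hf hx hu hxu hfu k,
      hf.map_mul hx (pow_mem hu k), hxu, map_pow hf hu k, hfu, mul_assoc, ← pow_succ']

theorem pow_card_eq_one_of_mem {u : Ω} (hu : u ∈ S) : u ^ Nat.card S = 1 := by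
  have := pow_card_eq_one' (x := (⟨u, hu⟩ : S))
  exact congrArg Subtype.val this

/-- A map fixing `V` pointwise and trivial modulo `V` has period `#S`. -/
theorem periodic_of_fix {M V : Subgroup Ω} {f : Ω → Ω} (hf : IsMap F M f) (hV : V ≤ M)
    (hfix : ∀ v ∈ V, f v = v) (h : ∀ x ∈ M, x⁻¹ * f x ∈ V) : Periodic (Nat.card S) M f := by
  intro x hx
  rw [iterate_twist hf hx (hV (h x hx)) (mul_inv_cancel_left x (f x)).symm (hfix _ (h x hx)),
    pow_card_eq_one_of_mem (hf.le (hV (h x hx))), mul_one]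

/-- Periods multiply along `V ≤ M`. -/
theorem periodic_mul {M V : Subgroup Ω} {f : Ω → Ω} {n : ℕ} (hf : IsMap F M f) (hV : V ≤ M)
    (h : ∀ x ∈ M, x⁻¹ * f x ∈ V) (hn : Periodic n V f) : Periodic (n * Nat.card S) M f := by
  intro x hx
  rw [Function.iterate_mul]
  exact periodic_of_fix (isMap_iterate hf (fun y hy => mem_of_mod hV h hy) n) hV hn
    (iterate_mod hV h n) x hx

/-- A twist by `V` is a twist by `H` for a map of period prime to `p` trivial on `V` modulo `H`. -/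
theorem coprime_twist_mem [Finite S] (hS : IsPGroup p S) {M V H : Subgroup Ω} {f : Ω → Ω}
    (hf : IsMap F M f) (hV : V ≤ M) (hH : H ≤ V) (hfH : ∀ h ∈ H, f h ∈ H)
    (hVH : ∀ v ∈ V, v⁻¹ * f v ∈ H) {x : Ω} (hx : x ∈ M) (hxv : x⁻¹ * f x ∈ V) {n : ℕ}
    (hn : n.Coprime p) (hper : f^[n] x = x) : x⁻¹ * f x ∈ H := by
  set v := x⁻¹ * f x with hv
  have hfx : f x = x * v := (mul_inv_cancel_left x (f x)).symm
  have key : ∀ k : ℕ, ∃ h ∈ H, f^[k] x = x * (v ^ k * h) := by
    intro k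
    induction k with
    | zero => exact ⟨1, one_mem _, by simp⟩
    | succ k ih =>
      obtain ⟨h, hh, e⟩ := ih
      refine ⟨(v ^ k)⁻¹ * f (v ^ k) * f h,
        mul_mem (hVH _ (pow_mem hxv k)) (hfH h hh), ?_⟩
      rw [Function.iterate_succ_apply', e,
        hf.map_mul hx (mul_mem (pow_mem (hV hxv) k) (hV (hH hh))),
        hf.map_mul (pow_mem (hV hxv) k) (hV (hH hh)), hfx, pow_succ']
      group
  obtain ⟨h, hh, e⟩ := key n
  rw [hper] at e
  have e' : v ^ n * h = 1 := mul_eq_left.mp e.symm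
  have hvn : v ^ n ∈ H := by
    rw [mul_eq_one_iff_eq_inv.mp e']
    exact inv_mem hh
  obtain ⟨k, hk⟩ := hS ⟨v, hf.le (hV hxv)⟩
  have hk' : v ^ p ^ k = 1 := congrArg Subtype.val hk
  have := FusionNormal.pow_gcd_mem hvn hk'
  rwa [Nat.Coprime.gcd_eq_one (hn.pow_right k), pow_one] at this

/-- An exponent congruent to `1` modulo `n` killing the `p`-part of a period. -/
theorem exists_exponent [Finite S] [Fact p.Prime] (hS : IsPGroup p S) {n : ℕ} (hn : n.Coprime p)
    (e : ℕ) : ∃ m, m % n = 1 % n ∧ Nat.card S ^ e ∣ m := by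
  obtain ⟨a, ha⟩ := IsPGroup.iff_card.1 hS
  have hco : n.Coprime (Nat.card S ^ e) := by
    rw [ha, ← pow_mul]
    exact hn.pow_right _
  obtain ⟨m, h1, h2⟩ := Nat.chineseRemainder hco 1 0
  exact ⟨m, h1, Nat.modEq_zero_iff_dvd.1 h2⟩

theorem iterate_eq_of_periodic {f : Ω → Ω} {x : Ω} {n m : ℕ} (hx : f^[n] x = x)
    (hm : m % n = 1 % n) : f^[m] x = f x := by
  have hp : Function.IsPeriodicPt f n x := hx
  have h1 := hp.iterate_mod_apply m
  have h2 := hp.iterate_mod_apply 1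
  rw [hm] at h1
  exact h1.symm.trans h2

theorem periodic_iterate {M : Subgroup Ω} {f : Ω → Ω} {n m q : ℕ} (h : Periodic (n * q) M f)
    (hm : q ∣ m) : Periodic n M f^[m] := by
  obtain ⟨c, rfl⟩ := hm
  intro x hx
  rw [← Function.iterate_mul, show q * c * n = n * q * c by ring]
  exact Function.IsPeriodicPt.mul_const (h x hx) c

/-! ### Lifts -/

/-- `P C_S(P)`. -/
def Dom (S P : Subgroup Ω) : Subgroup Ω := P ⊔ centralizerIn S P

theorem le_dom (S P : Subgroup Ω) : P ≤ Dom S P := le_sup_left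

theorem cen_le_dom (S P : Subgroup Ω) : centralizerIn S P ≤ Dom S P := le_sup_right

theorem dom_le {P : Subgroup Ω} (hP : P ≤ S) : Dom S P ≤ S := sup_le hP inf_le_left

theorem dom_le_normalizerIn {P : Subgroup Ω} (hP : P ≤ S) : Dom S P ≤ normalizerIn S P :=
  sup_le (le_normalizerIn hP) (centralizerIn_le_normalizerIn S P)

/-- `f` is a map on `P C_S(P)` that agrees with `h` on `P` and is trivial modulo `P`. -/
structure Lift (F : FusionSystem S) (P : Subgroup Ω) (h f : Ω → Ω) : Prop where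
  map : IsMap F (Dom S P) f
  eq : ∀ x ∈ P, f x = h x
  modP : ∀ x ∈ Dom S P, x⁻¹ * f x ∈ P

/-- It suffices to check triviality modulo `P` on the centralizer. -/
theorem Lift.of_centralizer {P : Subgroup Ω} {h f : Ω → Ω} (hm : IsMap F (Dom S P) f)
    (he : ∀ x ∈ P, f x = h x) (hP : ∀ x ∈ P, f x ∈ P)
    (hc : ∀ c ∈ centralizerIn S P, c⁻¹ * f c ∈ P) : Lift F P h f := by
  refine ⟨hm, he, ?_⟩
  have hPS : P ≤ S := (le_dom S P).trans hm.le
  let A : Subgroup Ω :=
    { carrier := {x | x ∈ Dom S P ∧ x⁻¹ * f x ∈ P}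
      one_mem' := ⟨one_mem _, by simp [hm.map_one]⟩
      mul_mem' := by
        rintro x y ⟨hx, hx'⟩ ⟨hy, hy'⟩
        refine ⟨mul_mem hx hy, ?_⟩
        rw [hm.map_mul hx hy,
          show (x * y)⁻¹ * (f x * f y) = y⁻¹ * (x⁻¹ * f x) * y * (y⁻¹ * f y) by group]
        exact mul_mem (normalizerIn_conj_inv (dom_le_normalizerIn hPS hy) hx') hy'
      inv_mem' := by
        rintro x ⟨hx, hx'⟩
        refine ⟨inv_mem hx, ?_⟩
        rw [hm.map_inv hx, show x⁻¹⁻¹ * (f x)⁻¹ = x * (x⁻¹ * f x)⁻¹ * x⁻¹ by group]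
        exact normalizerIn_conj (dom_le_normalizerIn hPS hx) (inv_mem hx') }
  have hle : Dom S P ≤ A :=
    sup_le (fun x hx => ⟨le_dom S P hx, mul_mem (inv_mem hx) (hP x hx)⟩)
      fun c hc' => ⟨cen_le_dom S P hc', hc c hc'⟩
  exact fun x hx => (hle hx).2

theorem Lift.mem {P : Subgroup Ω} {h f : Ω → Ω} (L : Lift F P h f) {x : Ω}
    (hx : x ∈ Dom S P) : f x ∈ Dom S P := mem_of_mod (le_dom S P) L.modP hx

theorem Lift.mem_P {P : Subgroup Ω} {h f : Ω → Ω} (L : Lift F P h f) {x : Ω} (hx : x ∈ P) :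
    f x ∈ P := by
  rw [show f x = x * (x⁻¹ * f x) from (mul_inv_cancel_left x (f x)).symm]
  exact mul_mem hx (L.modP x (le_dom S P hx))

theorem Lift.surj {P : Subgroup Ω} [Finite S] {h f : Ω → Ω} (L : Lift F P h f) {y : Ω} (hy : y ∈ P) :
    ∃ x ∈ P, f x = y := by
  have he : img f P = P := eq_of_le_of_card ((le_dom S P).trans L.map.le)
    (L.map.img_le (le_dom S P) fun x hx => L.mem_P hx) (L.map.card_img (le_dom S P)).ge
  exact (L.map.mem_img_iff (le_dom S P)).1 (he.symm ▸ hy)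

theorem Lift.iterate {P : Subgroup Ω} {h f : Ω → Ω} (L : Lift F P h f) (k : ℕ) :
    Lift F P h^[k] f^[k] :=
  ⟨isMap_iterate L.map (fun _ hx => L.mem hx) k,
    fun x hx => (iterate_congr (fun _ hy => L.mem_P hy) (fun y hy => (L.eq y hy).symm) k x hx).symm,
    iterate_mod (le_dom S P) L.modP k⟩

theorem Lift.comp {P : Subgroup Ω} {h h' f f' : Ω → Ω} (L : Lift F P h f) (L' : Lift F P h' f') :
    Lift F P (fun x => h' (h x)) (fun x => f' (f x)) := by
  refine ⟨L.map.comp L'.map fun x hx => L.mem hx, fun x hx => ?_, fun x hx => ?_⟩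
  · rw [← L.eq x hx, L'.eq _ (L.mem_P hx)]
  · rw [show x⁻¹ * f' (f x) = (x⁻¹ * f x) * ((f x)⁻¹ * f' (f x)) by group]
    exact mul_mem (L.modP x hx) (L'.modP _ (L.mem hx))

/-- A lift of a map of period prime to `p` can be chosen with the same period. -/
theorem Lift.periodize [Finite S] [Fact p.Prime] (hS : IsPGroup p S) {P : Subgroup Ω} {h f : Ω → Ω}
    (L : Lift F P h f) {n : ℕ} (hn : n.Coprime p) (hper : Periodic n P h) :
    ∃ g, Lift F P h g ∧ Periodic n (Dom S P) g := by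
  obtain ⟨m, hm, hd⟩ := exists_exponent hS hn 1
  rw [pow_one] at hd
  have hfn : Periodic n P f := fun x hx => ((L.iterate n).eq x hx).trans (hper x hx)
  refine ⟨f^[m], ⟨isMap_iterate L.map (fun _ hx => L.mem hx) m, fun x hx => ?_,
    iterate_mod (le_dom S P) L.modP m⟩,
    periodic_iterate (periodic_mul L.map (le_dom S P) L.modP hfn) hd⟩
  rw [iterate_eq_of_periodic (hfn x hx) hm, L.eq x hx]

/-- A lift fixes every commutator of the centralizer that lies in `P`. -/
theorem Lift.fix_comm [Finite S] {P : Subgroup Ω} {h f : Ω → Ω} (L : Lift F P h f) {a b : Ω}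
    (ha : a ∈ centralizerIn S P) (hb : b ∈ centralizerIn S P) :
    f (a⁻¹ * b * a * b⁻¹) = a⁻¹ * b * a * b⁻¹ := by
  have hD := cen_le_dom S P
  have key : ∀ c ∈ centralizerIn S P, ∀ d ∈ centralizerIn S P,
      d * (c⁻¹ * f c) = (c⁻¹ * f c) * d := fun c hc d hd =>
    (mem_centralizerIn.1 hd).2 _ (L.modP c (hD hc))
  have hfc : ∀ c ∈ centralizerIn S P, f c ∈ centralizerIn S P := by
    intro c hc
    refine map_centralizerIn L.map (le_dom S P) ?_ (hD hc) hc
    refine IsIso.img_eq_of L.map (le_dom S P) (fun x hx => L.mem_P hx) fun y hy => ?_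
    exact L.surj hy
  rw [L.map.map_mul (mul_mem (mul_mem (inv_mem (hD ha)) (hD hb)) (hD ha)) (inv_mem (hD hb)),
    L.map.map_mul (mul_mem (inv_mem (hD ha)) (hD hb)) (hD ha),
    L.map.map_mul (inv_mem (hD ha)) (hD hb), L.map.map_inv (hD ha), L.map.map_inv (hD hb)]
  set u := a⁻¹ * f a with hu
  set v := b⁻¹ * f b with hv
  have ea : f a = a * u := (mul_inv_cancel_left a (f a)).symm
  have eb : f b = b * v := (mul_inv_cancel_left b (f b)).symm
  have hub : b * u = u * b := key a ha b hb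
  have hva : a * v = v * a := key b hb a ha
  have huv : v * u = u * v := by
    have := key a ha (f b) (hfc b hb)
    apply mul_left_cancel (a := b)
    have eb' : b * v = f b := mul_inv_cancel_left b (f b)
    calc b * (v * u) = b * v * u := (mul_assoc b v u).symm
      _ = u * (b * v) := by rw [eb']; exact this
      _ = u * b * v := (mul_assoc u b v).symm
      _ = b * u * v := by rw [hub]
      _ = b * (u * v) := mul_assoc b u v
  rw [ea, eb]
  have e1 : (a * u)⁻¹ * (b * v) * (a * u) = a⁻¹ * b * a * v := by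
    calc (a * u)⁻¹ * (b * v) * (a * u) = u⁻¹ * (a⁻¹ * b * (v * a) * u) := by group
      _ = u⁻¹ * (a⁻¹ * b * (a * v) * u) := by rw [hva]
      _ = u⁻¹ * (a⁻¹ * b * a * (v * u)) := by group
      _ = u⁻¹ * (a⁻¹ * b * a * (u * v)) := by rw [huv]
      _ = (u⁻¹ * (a⁻¹ * b * a) * u) * v := by group
      _ = _ := by
        have hua : a * u = u * a := key a ha a ha
        have hc : Commute u (a⁻¹ * b * a) :=
          ((Commute.inv_right (Commute.symm hua)).mul_right (Commute.symm hub)).mul_right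
            (Commute.symm hua)
        rw [hc.inv_left.eq, inv_mul_cancel_right]
  rw [e1]
  group

end Cfsg.Agent.FusionNormalCent
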