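import Cfsg.Agent.Lib.FusionNormalCent.Basic

/-
Two maps on `P⟨y⟩`, `y` centralizing the fully normalized `P`, agreeing on `P` and trivial modulo `P`
differ on `y` by a commutator of `C_S(P)`; hence periodic lifts are determined.
Main results: `le_of_normalized`, `exists_commutator`, `eq_of_lift`.
-/

set_option autoImplicit false

namespace Cfsg.Agent.FusionNormalCent

open Cfsg Cfsg.FusionSystem Cfsg.Agent.Fusion

variable {Ω : Type*} [Group Ω] {S : Subgroup Ω} {F : FusionSystem S} {p : ℕ}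

/-- A `p`-subgroup normalized by a Sylow subgroup lies in it. -/
theorem le_of_normalized {M : Type*} [Group M] {A B U : Subgroup M} (hB : IsSylowIn p B A)
    (hUA : U ≤ A) (hU : IsPGroup p U) (hn : ∀ b ∈ B, ∀ u ∈ U, b * u * b⁻¹ ∈ U) : U ≤ B := by
  have hle : B ≤ Subgroup.normalizer (U : Set M) := fun b hb => Subgroup.mem_normalizer_iff.2 fun u =>
    ⟨hn b hb u, fun h => by
      simpa [mul_assoc] using hn b⁻¹ (inv_mem hb) _ h⟩
  have hC : IsPGroup p (U ⊔ B : Subgroup M) := IsPGroup.to_sup_of_normal_left' hU hB.isPGroup hle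
  have := hB.2.2 _ le_sup_right (sup_le hUA hB.le) hC
  exact le_sup_left.trans this.le

/-- Maps fixing `P` on a group `P ≤ M ≤ P C_S(P)` and trivial modulo `P` are `p`-elements. -/
theorem isPGroup_fixing [Finite S] (hS : IsPGroup p S) {P M : Subgroup Ω} (hPM : P ≤ M) (hMS : M ≤ S)
    {U : Subgroup (MulAut M)} (hU : U ≤ F.autGroup M)
    (hfix : ∀ κ ∈ U, ∀ x ∈ P, autFn κ x = x)
    (hmod : ∀ κ ∈ U, ∀ x ∈ M, x⁻¹ * autFn κ x ∈ P) [Fact p.Prime] : IsPGroup p U := by
  obtain ⟨a, ha⟩ := IsPGroup.iff_card.1 hS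
  intro κ
  refine ⟨a, Subtype.ext (MulEquiv.ext fun x => Subtype.ext ?_)⟩
  rw [SubgroupClass.coe_pow, ← autFn_apply ((κ : MulAut M) ^ p ^ a) x.2, autFn_pow _ _ x.2, ← ha]
  exact periodic_of_fix ((mem_autGroup_iff hMS).1 (hU κ.2)) hPM (hfix κ κ.2) (hmod κ κ.2) x x.2

/-- The twist of a map fixing `P` is a commutator. -/
theorem exists_commutator [Finite S] [Fact p.Prime] (hS : IsPGroup p S) (hF : F.IsSaturated p)
    {P : Subgroup Ω} (hP : F.IsFullyNormalized P) {y : Ω} (hy : y ∈ centralizerIn S P) {γ : Ω → Ω}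
    (hγ : IsMap F (P ⊔ Subgroup.zpowers y) γ) (hfix : ∀ x ∈ P, γ x = x) (hu : y⁻¹ * γ y ∈ P) :
    ∃ a ∈ centralizerIn S P, ∃ b ∈ centralizerIn S P, y⁻¹ * γ y = a⁻¹ * b * a * b⁻¹ := by
  set M := P ⊔ Subgroup.zpowers y
  set u := y⁻¹ * γ y
  have hyM : y ∈ M := le_sup_right (a := P) (Subgroup.mem_zpowers y)
  have hPM : P ≤ M := le_sup_left
  have hMS : M ≤ S := hγ.le
  have hMnorm : M ≤ normalizerIn S P := sup_le (le_normalizerIn hP.1)
    ((Subgroup.zpowers_le).2 (centralizerIn_le_normalizerIn S P hy))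
  let Fam := {M' : Subgroup Ω // ∃ g, IsIso F M M' g ∧ ∀ x ∈ P, g x = x}
  have : Finite Fam := by
    refine Finite.of_injective (fun M' : Fam => M'.1.subgroupOf S) fun A B h => Subtype.ext ?_
    obtain ⟨_, hA, -⟩ := A.2
    obtain ⟨_, hB, -⟩ := B.2
    have h' : A.1.subgroupOf S = B.1.subgroupOf S := h
    rw [← Subgroup.map_subgroupOf_eq_of_le hA.le_right, h',
      Subgroup.map_subgroupOf_eq_of_le hB.le_right]
  have : Nonempty Fam := ⟨⟨M, fun x => x, IsIso.refl hMS, fun _ _ => rfl⟩⟩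
  obtain ⟨⟨M', g, hg, hgP⟩, hmax⟩ :=
    Finite.exists_max fun M' : Fam => Nat.card (normalizerIn S M'.1 ⊓ centralizerIn S P : Subgroup Ω)
  have hPM' : P ≤ M' := fun x hx => hgP x hx ▸ hg.mem (hPM hx)
  have hM'S : M' ≤ S := hg.le_right
  have himgP : img g P = P :=
    IsIso.img_eq_of hg.1 hPM (fun x hx => (hgP x hx).symm ▸ hx) fun x hx => ⟨x, hx, hgP x hx⟩
  have hgy : g y ∈ centralizerIn S P := map_centralizerIn hg.1 hPM himgP hyM hy
  have hM'Dom : M' ≤ Dom S P := fun z hz => by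
    obtain ⟨x, hx, rfl⟩ := hg.exists_eq hz
    exact hg.1.forall_mem_sup hPM (le_sup_right (a := P))
      (fun w hw => le_dom S P ((hgP w hw).symm ▸ hw))
      (fun w hw => by
        obtain ⟨k, rfl⟩ := Subgroup.mem_zpowers_iff.1 hw
        exact cen_le_dom S P (map_centralizerIn hg.1 hPM himgP (le_sup_right (a := P) hw)
          (zpow_mem hy k))) hx
  let K : Subgroup (MulAut M') :=
    { carrier := {κ | ∀ x : M', (x : Ω) ∈ P → κ x = x}
      one_mem' := fun x _ => rfl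
      mul_mem' := fun {a b} ha hb x hx => by rw [MulAut.mul_apply, hb x hx, ha x hx]
      inv_mem' := fun {a} ha x hx => by
        have h := congrArg (a⁻¹ : MulAut M') (ha x hx)
        rw [MulAut.inv_apply_self] at h
        exact h.symm }
  have hNK : NK S M' K = normalizerIn S M' ⊓ centralizerIn S P := by
    ext s
    refine ⟨fun hs => ⟨NK_le_normalizerIn S M' K hs, ?_⟩, fun hs => mem_NK.2 ⟨hs.1.1, ?_⟩⟩
    · obtain ⟨hsS, α, hα, e⟩ := mem_NK.1 hs
      refine mem_centralizerIn_of_conj hsS fun x hx => ?_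
      rw [← e ⟨x, hPM' hx⟩, hα ⟨x, hPM' hx⟩ hx]
    · exact ⟨normConj S M' ⟨s, hs.1⟩,
        fun x hx => Subtype.ext (centralizerIn_conj hs.2 hx), fun x => rfl⟩
  have hfK : IsFullyK F M' K := by
    refine ⟨hM'S, fun R f hf => ?_⟩
    set P' := img f P
    have hP'S : P' ≤ S := (hf.1.img_le hPM' fun x hx => hf.1.mem (hPM' hx))
    obtain ⟨h, hh, hhP, -⟩ := exists_normalizer_map hS (fullyAutomized_of_fullyNormalized hS hF hP)
      (receptive_of_fullyNormalized hS hF hP)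
      (isConj_symm (isConj_iff.2 ⟨f, hf.mono hPM'⟩) : F.IsConj P' P)
    have hh0 : IsIso F P' P h := ⟨hh.mono (le_normalizerIn hP'S), hhP⟩
    have hahI : IsIso F P P (fun x => h (f x)) := (hf.mono hPM').trans hh0
    obtain ⟨a', ha', hal, -⟩ := hahI.symm
    obtain ⟨e, he, hee⟩ := (isReceptive_iff.1 (receptive_of_fullyNormalized hS hF hP)).2 P a' ha'
    have heD := he.mono (sup_le (le_Nx ha'.1) (centralizerIn_le_Nx S P a') : Dom S P ≤ _)
    have hhD : ∀ z ∈ Dom S P', h z ∈ Dom S P := fun z hz =>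
      hh.forall_mem_sup (le_normalizerIn hP'S) (centralizerIn_le_normalizerIn S P')
        (fun w hw => le_dom S P (hh0.mem hw))
        (fun w hw => cen_le_dom S P (map_centralizerIn hh (le_normalizerIn hP'S) hhP
          (centralizerIn_le_normalizerIn S P' hw) hw)) hz
    have hk : IsMap F (Dom S P') (fun z => e (h z)) :=
      (hh.mono (dom_le_normalizerIn hP'S)).comp heD hhD
    have hRD : R ≤ Dom S P' := fun z hz => by
      obtain ⟨x, hx, rfl⟩ := hf.exists_eq hz
      exact hf.1.forall_mem_sup hPM' (inf_le_right : centralizerIn S P ⊓ M' ≤ M')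
        (fun w hw => le_dom S P' (hf.1.mem_img hw))
        (fun w hw => cen_le_dom S P' (map_centralizerIn hf.1 hPM' rfl hw.2 hw.1))
        (show x ∈ P ⊔ (centralizerIn S P ⊓ M') by
          obtain ⟨x0, hx0, rfl⟩ := hg.exists_eq hx
          exact hg.1.forall_mem_sup hPM (le_sup_right (a := P))
            (fun w hw => le_sup_left (b := centralizerIn S P ⊓ M') ((hgP w hw).symm ▸ hw))
            (fun w hw => by
              obtain ⟨k, rfl⟩ := Subgroup.mem_zpowers_iff.1 hw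
              exact le_sup_right (a := P) ⟨map_centralizerIn hg.1 hPM himgP
                (le_sup_right (a := P) hw) (zpow_mem hy k), hg.mem (le_sup_right (a := P) hw)⟩) hx0)
    have hfam : ∃ g', IsIso F M (img (fun z => e (h z)) R) g' ∧ ∀ x ∈ P, g' x = x := by
      refine ⟨fun x => e (h (f (g x))),
        (hg.trans hf).trans (IsMap.isIso_of_mono hk hRD), fun x hx => ?_⟩
      show e (h (f (g x))) = x
      rw [hgP x hx, hee _ (hahI.mem hx)]
      exact hal x hx
    refine le_trans ?_ (le_of_le_of_eq (hmax ⟨_, hfam⟩) (by rw [hNK]))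
    show Nat.card (NK S R (transK hf K)) ≤ _
    have hsub : ∀ s ∈ NK S R (transK hf K),
        s ∈ centralizerIn S P' ∧ s ∈ normalizerIn S R := by
      intro s hs
      refine ⟨?_, NK_le_normalizerIn _ _ _ hs⟩
      obtain ⟨hsS, β, hβ, e'⟩ := mem_NK.1 hs
      obtain ⟨α, hα, e''⟩ := mem_transK.1 hβ
      refine mem_centralizerIn_of_conj hsS fun w hw => ?_
      obtain ⟨x, hx, rfl⟩ := (hf.1.mem_img_iff hPM').1 hw
      have h1 := e'' ⟨x, hPM' hx⟩
      rw [hα ⟨x, hPM' hx⟩ hx, e'] at h1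
      exact h1
    have hNKD : NK S R (transK hf K) ≤ Dom S P' := fun s hs => cen_le_dom S P' (hsub s hs).1
    rw [← hk.card_img hNKD]
    have hkP' : img (fun z => e (h z)) P' = P := by
      refine IsIso.img_eq_of hk (le_dom S P') (fun w hw => ?_) fun z hz => ?_
      · obtain ⟨x, hx, rfl⟩ := (hf.1.mem_img_iff hPM').1 hw
        show e (h (f x)) ∈ P
        rw [hee _ (hahI.mem hx), hal x hx]
        exact hx
      · refine ⟨f z, hf.1.mem_img hz, ?_⟩
        show e (h (f z)) = z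
        rw [hee _ (hahI.mem hz), hal z hz]
    have := finite_of_le (S := S) (P := normalizerIn S (img (fun z => e (h z)) R) ⊓ centralizerIn S P)
      (inf_le_left.trans inf_le_left)
    refine Subgroup.card_le_of_le (hk.img_le hNKD fun s hs => ?_)
    exact ⟨map_normalizerIn hk hRD rfl (hNKD hs) (hsub s hs).2,
      map_centralizerIn hk (le_dom S P') hkP' (hNKD hs) (hsub s hs).1⟩
  obtain ⟨-, hSyl⟩ := fullyK_spec hS hF hfK
  -- the stabilizer of the chain
  let U : Subgroup (MulAut M') :=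
    { carrier := {κ | κ ∈ F.autGroup M' ∧ κ ∈ K ∧ ∀ x : M', (x : Ω)⁻¹ * (κ x : M') ∈ P}
      one_mem' := ⟨one_mem _, one_mem _, fun x => by simp⟩
      mul_mem' := fun {a b} ha hb => ⟨mul_mem ha.1 hb.1, mul_mem ha.2.1 hb.2.1, fun x => by
        rw [MulAut.mul_apply, show (x : Ω)⁻¹ * (a (b x) : M') =
          ((x : Ω)⁻¹ * (b x : M')) * ((b x : M') : Ω)⁻¹ * (a (b x) : M') by group, mul_assoc]
        exact mul_mem (hb.2.2 x) (ha.2.2 (b x))⟩
      inv_mem' := fun {a} ha => ⟨inv_mem ha.1, inv_mem ha.2.1, fun x => by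
        have h := inv_mem (ha.2.2 (a⁻¹ x))
        rw [MulAut.apply_inv_self, mul_inv_rev, inv_inv] at h
        exact h⟩ }
  have hUp : IsPGroup p U := isPGroup_fixing hS hPM' hM'S (fun κ hκ => hκ.1)
    (fun κ hκ x hx => by rw [autFn_apply κ (hPM' hx), hκ.2.1 ⟨x, hPM' hx⟩ hx])
    (fun κ hκ x hx => by rw [autFn_apply κ hx]; exact hκ.2.2 ⟨x, hx⟩)
  have hUB : U ≤ autInducedBy S M' ⊓ K := by
    refine le_of_normalized hSyl (fun κ hκ => ⟨hκ.1, hκ.2.1⟩) hUp fun b hb κ hκ => ?_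
    refine ⟨mul_mem (mul_mem (autInducedBy_le_autGroup F le_rfl hM'S hb.1) hκ.1)
      (inv_mem (autInducedBy_le_autGroup F le_rfl hM'S hb.1)),
      mul_mem (mul_mem hb.2 hκ.2.1) (inv_mem hb.2), fun x => ?_⟩
    obtain ⟨s, hs, hse⟩ := mem_autInducedBy_iff.1 hb.1
    have h1 := hκ.2.2 (b⁻¹ x)
    rw [MulAut.mul_apply, MulAut.mul_apply]
    have h2 : (b ⟨_, hPM' h1⟩ : M') = ⟨_, hPM' h1⟩ := hb.2 _ h1
    have h3 : b ((b⁻¹ x)⁻¹ * κ (b⁻¹ x)) = x⁻¹ * b (κ (b⁻¹ x)) := by
      rw [map_mul, map_inv, MulAut.apply_inv_self]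
    have h4 : ((b⁻¹ x)⁻¹ * κ (b⁻¹ x) : M') = ⟨_, hPM' h1⟩ := Subtype.ext (by push_cast; rfl)
    rw [h4, h2] at h3
    have h5 := congrArg Subtype.val h3
    push_cast at h5
    rw [← h5]
    exact h1
  -- transport
  obtain ⟨gi, hgi, hgl, hgr⟩ := hg.symm
  have hγmod : ∀ x ∈ M, γ x ∈ M := fun x hx => hγ.forall_mem_sup le_sup_left le_sup_right
    (fun w hw => hPM ((hfix w hw).symm ▸ hw))
    (fun w hw => by
      obtain ⟨k, rfl⟩ := Subgroup.mem_zpowers_iff.1 hw
      obtain ⟨φ, hφ, e⟩ := id hγ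
      rw [← e _ (le_sup_right (a := P) hw),
        show (⟨y ^ k, le_sup_right (a := P) hw⟩ : M) = (⟨y, hyM⟩ : M) ^ k from Subtype.ext (by simp),
        map_zpow, e y hyM, show γ y = y * u from (mul_inv_cancel_left y (γ y)).symm]
      exact zpow_mem (mul_mem hyM (hPM hu)) k) hx
  have hγI : IsIso F M M γ :=
    ⟨hγ, eq_of_le_of_card hMS (hγ.img_le le_rfl hγmod) (hγ.card_img le_rfl).ge⟩
  obtain ⟨κ, hκ, hκe⟩ := exists_aut_of_isIso ((hgi.trans hγI).trans hg)
  have hκg : ∀ x (hx : x ∈ M), ((κ ⟨g x, hg.mem hx⟩ : M') : Ω) = g (γ x) := fun x hx => by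
    rw [hκe]
    show g (γ (gi (g x))) = _
    rw [hgl x hx]
  have hκK : κ ∈ K := fun x hx => by
    refine Subtype.ext ?_
    have h := hκg x (hPM hx)
    rw [hfix _ hx] at h
    have e : (⟨g x, hg.mem (hPM hx)⟩ : M') = x := Subtype.ext (hgP _ hx)
    rwa [e, hgP _ hx] at h
  have hκU : κ ∈ U := by
    refine ⟨hκ, hκK, fun x => ?_⟩
    have hmod : ∀ w ∈ M, w⁻¹ * γ w ∈ P := by
      intro w hw
      let A : Subgroup Ω :=
        { carrier := {w | w ∈ M ∧ w⁻¹ * γ w ∈ P}
          one_mem' := ⟨one_mem _, by simp [hγ.map_one]⟩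
          mul_mem' := by
            rintro a b ⟨ha, ha'⟩ ⟨hb, hb'⟩
            refine ⟨mul_mem ha hb, ?_⟩
            rw [hγ.map_mul ha hb,
              show (a * b)⁻¹ * (γ a * γ b) = b⁻¹ * (a⁻¹ * γ a) * b * (b⁻¹ * γ b) by group]
            exact mul_mem (normalizerIn_conj_inv (hMnorm hb) ha') hb'
          inv_mem' := by
            rintro a ⟨ha, ha'⟩
            refine ⟨inv_mem ha, ?_⟩
            rw [hγ.map_inv ha, show a⁻¹⁻¹ * (γ a)⁻¹ = a * (a⁻¹ * γ a)⁻¹ * a⁻¹ by group]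
            exact normalizerIn_conj (hMnorm ha) (inv_mem ha') }
      have hle : M ≤ A := sup_le
        (fun a ha => ⟨hPM ha, by rw [hfix a ha, inv_mul_cancel]; exact one_mem _⟩)
        ((Subgroup.zpowers_le).2 ⟨hyM, hu⟩)
      exact (hle hw).2
    obtain ⟨w, hw, hwx⟩ := hg.exists_eq x.2
    have h := hκg w hw
    have e : (⟨g w, hg.mem hw⟩ : M') = x := Subtype.ext hwx
    rw [e] at h
    rw [h, ← hwx, ← hg.1.map_inv hw, ← hg.1.map_mul (inv_mem hw) (hγmod w hw), hgP _ (hmod w hw)]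
    exact hmod w hw
  obtain ⟨hκS, -⟩ := hUB hκU
  obtain ⟨s, hs, hse⟩ := mem_autInducedBy_iff.1 hκS
  have hsD : s ∈ centralizerIn S P := mem_centralizerIn_of_conj hs fun x hx => by
    rw [← hse ⟨x, hPM' hx⟩, hκK ⟨x, hPM' hx⟩ hx]
  refine ⟨g y, hgy, s, hsD, ?_⟩
  have h := hse ⟨g y, hg.mem hyM⟩
  rw [hκg y hyM] at h
  have hgu : g u = (g y)⁻¹ * g (γ y) := by
    rw [← hg.1.map_inv hyM, ← hg.1.map_mul (inv_mem hyM) (hγmod y hyM)]
  rw [← hgP u hu, hgu, h]
  group

/-- A periodic lift agrees with every periodic map agreeing with it on `P`. -/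
theorem eq_of_lift [Finite S] [Fact p.Prime] (hS : IsPGroup p S) (hF : F.IsSaturated p)
    {P : Subgroup Ω} (hP : F.IsFullyNormalized P) {h f β : Ω → Ω} (L : Lift F P h f) {n : ℕ}
    (hn : n.Coprime p) (hper : Periodic n (Dom S P) f) {y : Ω} (hy : y ∈ centralizerIn S P)
    (hβ : IsMap F (P ⊔ Subgroup.zpowers y) β) (hag : ∀ x ∈ P, β x = f x)
    (hu : y⁻¹ * β y ∈ P) (hβn : β^[n] y = y) : f y = β y := by
  set M := P ⊔ Subgroup.zpowers y
  have hyM : y ∈ M := le_sup_right (a := P) (Subgroup.mem_zpowers y)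
  have hyD : y ∈ Dom S P := cen_le_dom S P hy
  have hMD : M ≤ Dom S P := sup_le (le_dom S P) ((Subgroup.zpowers_le).2 hyD)
  have hfM : IsMap F M f := L.map.mono hMD
  have hfMmem : ∀ x ∈ M, f x ∈ M := fun x hx => by
    rw [show f x = x * (x⁻¹ * f x) from (mul_inv_cancel_left x (f x)).symm]
    exact mul_mem hx (le_sup_left (b := Subgroup.zpowers y) (L.modP x (hMD hx)))
  have hfI : IsIso F M M f :=
    ⟨hfM, eq_of_le_of_card hfM.le (hfM.img_le le_rfl hfMmem) (hfM.card_img le_rfl).ge⟩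
  obtain ⟨fi, hfi, hfl, hfr⟩ := hfI.symm
  have hβmem : ∀ x ∈ M, β x ∈ M := fun x hx => hβ.forall_mem_sup le_sup_left le_sup_right
    (fun w hw => by rw [hag w hw]; exact le_sup_left (b := Subgroup.zpowers y) (L.mem_P hw))
    (fun w hw => by
      obtain ⟨k, rfl⟩ := Subgroup.mem_zpowers_iff.1 hw
      obtain ⟨φ, hφ, e⟩ := id hβ
      rw [← e _ (le_sup_right (a := P) hw),
        show (⟨y ^ k, le_sup_right (a := P) hw⟩ : M) = (⟨y, hyM⟩ : M) ^ k from Subtype.ext (by simp),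
        map_zpow, e y hyM,
        show β y = y * (y⁻¹ * β y) from (mul_inv_cancel_left y (β y)).symm]
      exact zpow_mem (mul_mem hyM (le_sup_left (b := Subgroup.zpowers y) hu)) k) hx
  -- `γ = f⁻¹ β`
  have hγ : IsMap F M (fun x => fi (β x)) := hβ.comp hfi.1 hβmem
  have hγP : ∀ x ∈ P, fi (β x) = x := fun x hx => by
    rw [hag x hx]
    exact hfl x (le_sup_left (b := Subgroup.zpowers y) hx)
  set w := (f y)⁻¹ * β y with hw
  have hwP : w ∈ P := by
    rw [hw, show (f y)⁻¹ * β y = (y⁻¹ * f y)⁻¹ * (y⁻¹ * β y) by group]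
    exact mul_mem (inv_mem (L.modP y hyD)) hu
  obtain ⟨w', hw', hw'e⟩ := L.surj hwP
  have hw'M : w' ∈ M := le_sup_left (b := Subgroup.zpowers y) hw'
  have hγy : fi (β y) = y * w' := by
    have e : β y = f (y * w') := by
      rw [hfM.map_mul hyM hw'M, hw'e, hw, mul_inv_cancel_left]
    rw [e, hfl _ (mul_mem hyM hw'M)]
  obtain ⟨a, ha, b, hb, hab⟩ := exists_commutator hS hF hP hy hγ hγP
    (show y⁻¹ * fi (β y) ∈ P by rw [hγy, inv_mul_cancel_left]; exact hw')
  rw [hγy, inv_mul_cancel_left] at hab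
  have hfw' : f w' = w' := by rw [hab]; exact L.fix_comm ha hb
  have hww : w = w' := hw'e.symm.trans hfw'
  -- `f^[k] y * w^k = β^[k] y`
  have key : ∀ k, β^[k] y = f^[k] y * w ^ k := by
    intro k
    induction k with
    | zero => simp
    | succ k ih =>
      rw [Function.iterate_succ_apply', Function.iterate_succ_apply', ih]
      have hfk : y⁻¹ * f^[k] y ∈ P := iterate_mod (le_dom S P) L.modP k y hyD
      set v := y⁻¹ * f^[k] y
      have hfky : f^[k] y = y * v := (mul_inv_cancel_left y _).symm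
      have hvM : v ∈ M := le_sup_left (b := Subgroup.zpowers y) hfk
      have hwM : w ∈ M := le_sup_left (b := Subgroup.zpowers y) hwP
      have hβw : β (w ^ k) = w ^ k := by
        rw [hag _ (pow_mem hwP k), map_pow hfM hwM, hww, hfw']
      have hcomm : w * f v = f v * w := by
        rw [hab] at hww
        rw [hww]
        have hc : ∀ d ∈ centralizerIn S P, Commute d (f v) := fun d hd =>
          (mem_centralizerIn.1 hd).2 _ (L.mem_P hfk)
        exact (((hc a ha).inv_left.mul_left (hc b hb)).mul_left (hc a ha)).mul_left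
          (hc b hb).inv_left
      rw [hfky, hβ.map_mul (mul_mem hyM hvM) (pow_mem hwM k), hβ.map_mul hyM hvM, hβw,
        hfM.map_mul hyM hvM, hag v hfk, show β y = f y * w by rw [hw, mul_inv_cancel_left],
        pow_succ']
      calc f y * w * f v * w ^ k = f y * (w * f v) * w ^ k := by group
        _ = f y * (f v * w) * w ^ k := by rw [hcomm]
        _ = f y * f v * (w * w ^ k) := by group
  have hn' := key n
  rw [hβn, hper y hyD] at hn'
  have hwn : w ^ n ∈ (⊥ : Subgroup Ω) := Subgroup.mem_bot.2 (mul_eq_left.mp hn'.symm)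
  obtain ⟨k, hk⟩ := hS ⟨w, ((le_dom S P).trans L.map.le) hwP⟩
  have := FusionNormal.pow_gcd_mem hwn (congrArg Subtype.val hk : w ^ p ^ k = 1)
  rw [Nat.Coprime.gcd_eq_one (hn.pow_right k), pow_one, Subgroup.mem_bot, hw, inv_mul_eq_one] at this
  exact this

end Cfsg.Agent.FusionNormalCent
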